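import Mathlib
import Cfsg.Agent.Classical.Subfield.SympElements
import Cfsg.Agent.Classical.Symp.Simple

set_option autoImplicit false
set_option linter.unusedVariables false
set_option linter.unusedSimpArgs false
set_option linter.unusedSectionVars false
set_option linter.style.haveILetI false

/-! The radical of a point stabiliser of a symplectic group in characteristic two, in coordinate-free form. -/

namespace Cfsg.Lib.Classical.LargeRad

universe u v

variable {F : Type u} [Field F] {V : Type v} [AddCommGroup V] [Module F V] {B : LinearMap.BilinForm F V}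

/-- `x ↦ x + B(x,w) a + B(x,a) w + c B(x,a) a` for `w` orthogonal to `a`. -/
def sie (hA : B.IsAlt) (a w : V) (c : F) : BilinIsom B := sympS hA a w 1 * sympT hA a c

theorem sie_apply (hA : B.IsAlt) {a w : V} (h : B a w = 0) (c : F) (x : V) :
    (sie hA a w c).1 x = x + (B x w + c * B x a) • a + B x a • w := by
  rw [sie, BilinIsom.mul_apply', sympS_apply hA h, sympT_apply]
  simp only [map_add, map_smul, LinearMap.add_apply, LinearMap.smul_apply, hA a, h, smul_eq_mul, mul_zero, add_zero,
    one_mul]
  module

theorem sie_conj (hA : B.IsAlt) (g : BilinIsom B) (a w : V) (c : F) :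
    g * sie hA a w c * g⁻¹ = sie hA (g.1 a) (g.1 w) c := by
  rw [sie, sie, ← sympS_conj, ← sympT_conj]; group

variable (h2 : (2 : F) = 0) (hA : B.IsAlt)
include h2

theorem neg_smul_eq (r : F) (v : V) : (-r) • v = r • v := by
  linear_combination (norm := module) -h2 • (r • v)

theorem bil_comm (hA : B.IsAlt) (x y : V) : B x y = B y x := by
  linear_combination hA.neg_eq x y + h2 * B x y

theorem smul_two (v : V) : v + v = 0 := by
  linear_combination (norm := module) h2 • v

theorem sie_zero (a : V) (c : F) : sie hA a 0 c = sympT hA a c :=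
  BilinIsom.ext' fun x => by
    rw [sie_apply hA (map_zero _), sympT_apply, map_zero]; module

theorem sie_mul {a w w' : V} (h : B a w = 0) (h' : B a w' = 0) (c d : F) :
    sie hA a w c * sie hA a w' d = sie hA a (w + w') (c + d + B w w') :=
  BilinIsom.ext' fun x => by
    have hs : B (B x a • w') w = B x a * B w w' := by
      rw [map_smul, LinearMap.smul_apply, smul_eq_mul, bil_comm h2 hA w' w]
    rw [BilinIsom.mul_apply', sie_apply hA h, sie_apply hA h', sie_apply hA (by rw [map_add, h, h', add_zero])]
    simp only [map_add, map_smul, LinearMap.add_apply, LinearMap.smul_apply, hA a, h, hA.isRefl _ _ h,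
      hA.isRefl _ _ h', bil_comm h2 hA w' w, smul_eq_mul, mul_zero, add_zero]
    module

theorem sie_mul_sympT {a w : V} (h : B a w = 0) (c d : F) :
    sie hA a w c * sympT hA a d = sie hA a w (c + d) := by
  rw [sie, sie, mul_assoc, ← sympT_add]

theorem sie_add_centre {a w : V} (h : B a w = 0) (k c : F) : sie hA a (w + k • a) c = sie hA a w c :=
  BilinIsom.ext' fun x => by
    rw [sie_apply hA h, sie_apply hA (by rw [map_add, map_smul, hA a, h, smul_zero, add_zero]),
      map_add, map_smul, smul_eq_mul]
    linear_combination (norm := module) (k * B x a * 1) • (h2 • a)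

theorem sie_smul {a w : V} (h : B a w = 0) (k c : F) : sie hA (k • a) w c = sie hA a (k • w) (k ^ 2 * c) :=
  BilinIsom.ext' fun x => by
    rw [sie_apply hA (by rw [map_smul, LinearMap.smul_apply, h, smul_zero]),
      sie_apply hA (by rw [map_smul, h, smul_zero]), map_smul, map_smul, smul_eq_mul, smul_eq_mul]
    module

theorem sie_symm {a w : V} (h : B a w = 0) : sie hA a w 0 = sie hA w a 0 := by
  rw [sie, sie, sympT_zero, sympT_zero, mul_one, mul_one, sympS_symm hA h]

/-- Components orthogonal to a hyperbolic pair. -/
def perpPart (B : LinearMap.BilinForm F V) (a e v : V) : V := v + B v e • a + B v a • e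

variable {a e : V}
include hA

theorem perpPart_left (he : B a e = 1) (v : V) : B a (perpPart B a e v) = 0 := by
  rw [perpPart, map_add, map_add, map_smul, map_smul, hA a, he, smul_zero, add_zero, smul_eq_mul, mul_one,
    bil_comm h2 hA a v]
  linear_combination h2 * B v a

theorem perpPart_right (he : B a e = 1) (v : V) : B e (perpPart B a e v) = 0 := by
  rw [perpPart, map_add, map_add, map_smul, map_smul, hA e, bil_comm h2 hA e a, he, smul_zero, add_zero, smul_eq_mul,
    mul_one, bil_comm h2 hA e v]
  linear_combination h2 * B v e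

theorem eq_perpPart (he : B a e = 1) (v : V) : v = perpPart B a e v + B v e • a + B v a • e := by
  rw [perpPart]
  linear_combination (norm := module) -h2 • (B v e • a + B v a • e)

theorem exists_perp_value [FiniteDimensional F V] (hB : B.Nondegenerate) (he : B a e = 1) {u : V} (hu : u ≠ 0)
    (hau : B a u = 0) (heu : B e u = 0) (c : F) : ∃ w, B a w = 0 ∧ B e w = 0 ∧ B u w = c := by
  obtain ⟨p, hp⟩ := exists_hyperbolic_partner hB hu
  refine ⟨c • perpPart B a e p, ?_, ?_, ?_⟩
  · rw [map_smul, perpPart_left h2 hA he, smul_zero]
  · rw [map_smul, perpPart_right h2 hA he, smul_zero]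
  · simp [perpPart, hp, hA.isRefl _ _ hau, hA.isRefl _ _ heu]

theorem exists_perp_ne_zero [FiniteDimensional F V] (hB : B.Nondegenerate) (hd : 4 ≤ Module.finrank F V) (a e : V) :
    ∃ w, w ≠ 0 ∧ B a w = 0 ∧ B e w = 0 := by
  classical
  have h3 : Module.finrank F (Submodule.span F ({a, e} : Set V)) ≤ 2 := by
    refine (finrank_span_le_card _).trans ?_
    simp only [Set.toFinset_insert, Set.toFinset_singleton]
    exact Finset.card_le_two
  have h1 := LinearMap.BilinForm.finrank_orthogonal hB (Submodule.span F ({a, e} : Set V))
  obtain ⟨w, hw, hw0⟩ := Submodule.exists_mem_ne_zero_of_ne_bot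
    (p := B.orthogonal (Submodule.span F ({a, e} : Set V))) (fun h => by rw [h, finrank_bot] at h1; omega)
  exact ⟨w, hw0, hw a (Submodule.subset_span (by simp)), hw e (Submodule.subset_span (by simp))⟩

end Cfsg.Lib.Classical.LargeRad
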