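import Mathlib
import Cfsg.Agent.Classical.Symp.LargeRad.Basic
import Cfsg.Agent.Classical.Symp.Maximal

set_option autoImplicit false
set_option linter.unusedVariables false
set_option linter.unusedSimpArgs false
set_option linter.unusedSectionVars false
set_option linter.style.haveILetI false

/-! A subgroup of `Sp` containing a full set of radical elements and a transvection at the same centre. -/

namespace Cfsg.Lib.Classical.LargeRad

universe u v

variable {F : Type u} [Field F] {V : Type v} [AddCommGroup V] [Module F V] [FiniteDimensional F V]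
  {B : LinearMap.BilinForm F V}

/-- Every class of the radical at `a` modulo transvections is met by `L`. -/
def HasU (hA : B.IsAlt) (L : Subgroup (BilinIsom B)) (a : V) : Prop :=
  ∀ w, B a w = 0 → ∃ c, sie hA a w c ∈ L

theorem HasU.map {hA : B.IsAlt} {L : Subgroup (BilinIsom B)} {a : V} (h : HasU hA L a) {g : BilinIsom B}
    (hg : g ∈ L) : HasU hA L (g.1 a) := fun w hw => by
  obtain ⟨c, hc⟩ := h ((g⁻¹).1 w) (by rw [← BilinIsom.map_form g, BilinIsom.apply_inv_self, hw])
  refine ⟨c, ?_⟩
  have := L.mul_mem (L.mul_mem hg hc) (L.inv_mem hg)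
  rwa [sie_conj, BilinIsom.apply_inv_self] at this

variable (h2 : (2 : F) = 0) {hA : B.IsAlt} {L : Subgroup (BilinIsom B)}
include h2

theorem HasU.smul {a : V} (h : HasU hA L a) {k : F} (hk : k ≠ 0) : HasU hA L (k • a) := fun w hw => by
  rw [map_smul, LinearMap.smul_apply, smul_eq_mul, mul_eq_zero, or_iff_right hk] at hw
  obtain ⟨c, hc⟩ := h (k • w) (by rw [map_smul, hw, smul_zero])
  refine ⟨c / k ^ 2, ?_⟩
  rwa [sie_smul h2 hA hw, mul_div_cancel₀ _ (pow_ne_zero 2 hk)]

theorem top_of_two_centres (hB : B.Nondegenerate) {a e : V} (he : B a e = 1) (ha : a ∈ transCentres hA L)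
    (heC : e ∈ transCentres hA L) (hUa : HasU hA L a) (hUe : HasU hA L e) : L = ⊤ := by
  have hea : B e a = 1 := by rw [bil_comm h2 hA, he]
  have side : ∀ a e : V, B a e = 1 → a ∈ transCentres hA L → e ∈ transCentres hA L → HasU hA L e →
      ∀ v, B v e ≠ 0 → v ∈ transCentres hA L := by
    intro a e he ha heC hUe v hv
    have hea : B e a = 1 := by rw [bil_comm h2 hA, he]
    set v' := (B v e)⁻¹ • v with hv'
    have hv'e : B v' e = 1 := by simp [hv', hv]
    set p := perpPart B a e v' with hp
    have hpa := perpPart_left h2 hA he v'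
    have hpe := perpPart_right h2 hA he v'
    obtain ⟨c, hc⟩ := hUe p hpe
    have hk : sie hA e p (B v' a) ∈ L := by
      have := L.mul_mem hc (heC (c + B v' a))
      rwa [sie_mul_sympT h2 hA hpe, ← add_assoc, show c + c = 0 by linear_combination h2 * c, zero_add] at this
    have := transCentres_map ha hk
    rw [sie_apply hA hpe, hpa, he, zero_add, mul_one, one_smul] at this
    have e1 : v' = a + B v' a • e + p := by
      conv_lhs => rw [eq_perpPart h2 hA he v', hv'e, one_smul, ← hp]
      abel
    rw [← e1] at this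
    rw [show v = B v e • v' by rw [hv', smul_smul, mul_inv_cancel₀ hv, one_smul]]
    exact transCentres_smul this _
  have h1 := side a e he ha heC hUe
  have h3 := side e a hea heC ha hUa
  refine eq_top_of_transCentres hB (hA := hA) fun v => ?_
  by_cases hve : B v e = 0
  swap; · exact h1 v hve
  by_cases hva : B v a = 0
  swap; · exact h3 v hva
  rcases eq_or_ne v 0 with rfl | hv
  · exact transCentres_zero hA L
  obtain ⟨w, haw, hew, hvw⟩ := exists_perp_value h2 hA hB he hv (hA.isRefl _ _ hva) (hA.isRefl _ _ hve) 1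
  obtain ⟨c, hc⟩ := hUa w haw
  have hgv : (sie hA a w c).1 v = v + a := by
    rw [sie_apply hA haw, hva, hvw, mul_zero, zero_smul, add_zero, add_zero, one_smul]
  have := transCentres_map (h1 (v + a) (by rw [map_add, LinearMap.add_apply, hve, he, zero_add]; exact one_ne_zero))
    (L.inv_mem hc)
  rwa [← hgv, BilinIsom.inv_apply_self] at this

variable [Finite F] (hsq : ∀ x : F, ∃ r : F, r ^ 2 = x)
include hsq

/-- A full radical and one transvection with the same centre generate everything. -/
theorem top_of_transvection (hB : B.Nondegenerate) (hd : 4 ≤ Module.finrank F V) {a₀ : V} (hU₀ : HasU hA L a₀)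
    (hmove₀ : ∃ g ∈ L, B a₀ (g.1 a₀) ≠ 0) {c₀ : F} (hc₀ : c₀ ≠ 0) (hT₀ : sympT hA a₀ c₀ ∈ L) : L = ⊤ := by
  obtain ⟨r₀, hr₀⟩ := hsq c₀
  have hr : r₀ ≠ 0 := fun h => hc₀ (by rw [← hr₀, h]; ring)
  set a := r₀ • a₀ with ha
  have hUa : HasU hA L a := hU₀.smul h2 hr
  have haR : sympT hA a (1 : F) ∈ L := by rwa [ha, sympT_smul, hr₀, mul_one]
  obtain ⟨g, hg, hg0⟩ := hmove₀
  set μ := B a (g.1 a) with hμdef
  have hμ : μ ≠ 0 := by
    rw [hμdef, ha, map_smul (g.1), map_smul, map_smul, LinearMap.smul_apply, smul_smul, smul_eq_mul]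
    exact mul_ne_zero (mul_ne_zero hr hr) hg0
  set e := μ⁻¹ • g.1 a with he_def
  have hga : g.1 a = μ • e := by rw [he_def, smul_smul, mul_inv_cancel₀ hμ, one_smul]
  have he : B a e = 1 := by rw [he_def, map_smul, smul_eq_mul, ← hμdef, inv_mul_cancel₀ hμ]
  have hea : B e a = 1 := by rw [bil_comm h2 hA, he]
  have hUe : HasU hA L e := (hUa.map hg).smul h2 (inv_ne_zero hμ)
  clear_value e μ a
  set R : Set V := {r | sympT hA r (1 : F) ∈ L} with hR
  have Rmap : ∀ r ∈ R, ∀ h ∈ L, (h : BilinIsom B).1 r ∈ R := fun r hr h hh => by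
    have := L.mul_mem (L.mul_mem hh hr) (L.inv_mem hh)
    rwa [sympT_conj] at this
  have haR' : a ∈ R := haR
  have heR : μ • e ∈ R := hga ▸ Rmap a haR' g hg
  -- a vector of `R` in the common orthogonal of `a` and `e`
  obtain ⟨w, hw0, haw, hew, hwz⟩ : ∃ w, w ≠ 0 ∧ B a w = 0 ∧ B e w = 0 ∧ sie hA a w 0 ∈ L := by
    obtain ⟨w₁, h0, h1, h1'⟩ := exists_perp_ne_zero h2 hA hB hd a e
    have hk : ∀ s : F, ∃ c, sie hA a (s • w₁) c ∈ L := fun s => hUa _ (by rw [map_smul, h1, smul_zero])
    choose k hk using hk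
    have hshift : ∀ s : F, sie hA a (s • w₁) (k s + 1) ∈ L := fun s => by
      rw [← sie_mul_sympT h2 hA (by rw [map_smul, h1, smul_zero])]; exact L.mul_mem (hk s) haR
    by_cases hz : ∃ s : F, s ≠ 0 ∧ (k s = 0 ∨ k s = 1)
    · obtain ⟨s, hs, hks⟩ := hz
      refine ⟨s • w₁, smul_ne_zero hs h0, by rw [map_smul, h1, smul_zero], by rw [map_smul, h1', smul_zero], ?_⟩
      rcases hks with hks | hks
      · have := hk s; rwa [hks] at this
      · have := hshift s; rwa [hks, show (1 : F) + 1 = 0 by linear_combination h2] at this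
    push Not at hz
    obtain ⟨s, t, hst, hkst⟩ : ∃ s t : {x : F // x ≠ 0}, s ≠ t ∧ k s = k t := by
      by_contra hcon
      push Not at hcon
      haveI := Fintype.ofFinite F
      classical
      let f : {x : F // x ≠ 0} → {x : F // x ≠ 0} := fun s => ⟨k s, (hz s s.2).1⟩
      have hf : Function.Injective f := fun s t h => by
        by_contra hne
        exact hcon s t hne (congrArg Subtype.val h)
      obtain ⟨s, hs⟩ := (Finite.injective_iff_surjective.mp hf) ⟨1, one_ne_zero⟩
      exact (hz s s.2).2 (congrArg Subtype.val hs)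
    refine ⟨((s : F) + t) • w₁, smul_ne_zero (fun h => hst (Subtype.ext ?_)) h0, by rw [map_smul, h1, smul_zero],
      by rw [map_smul, h1', smul_zero], ?_⟩
    · linear_combination h - h2 * (t : F)
    · have := L.mul_mem (hk s) (hk t)
      rwa [sie_mul h2 hA (by rw [map_smul, h1, smul_zero]) (by rw [map_smul, h1, smul_zero]), hkst, ← add_smul,
        show k t + k t = 0 by linear_combination h2 * k t, map_smul, map_smul, LinearMap.smul_apply, hA w₁,
        smul_zero, smul_zero, zero_add] at this
  have hwe : B w e = 0 := hA.isRefl _ _ hew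
  have hwa : B w a = 0 := hA.isRefl _ _ haw
  have hu : μ • w ∈ R := by
    have h1 := Rmap _ heR _ hwz
    rw [map_smul, sie_apply hA haw, hew, hea, zero_mul, add_zero, zero_smul, add_zero, one_smul] at h1
    obtain ⟨v, hav, hev, hwv⟩ := exists_perp_value h2 hA hB he hw0 haw hew 1
    obtain ⟨c, hc⟩ := hUe v hev
    have h3 := Rmap _ h1 _ hc
    rw [map_smul, sie_apply hA hev] at h3
    simp only [map_add, LinearMap.add_apply, hev, hwv, hA e, hwe, add_zero, zero_smul, mul_zero, zero_add,
      one_smul] at h3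
    rwa [show e + w + e = w by linear_combination (norm := module) h2 • e] at h3
  set u := μ • w with hu_def
  have hu0 : u ≠ 0 := smul_ne_zero hμ hw0
  have hau : B a u = 0 := by rw [hu_def, map_smul, haw, smul_zero]
  have heu : B e u = 0 := by rw [hu_def, map_smul, hew, smul_zero]
  have hua : B u a = 0 := hA.isRefl _ _ hau
  have hue : B u e = 0 := hA.isRefl _ _ heu
  have huea : ∀ lam : F, u + lam • e ∈ R ∧ u + lam • a ∈ R := fun lam => by
    obtain ⟨v, hav, hev, huv⟩ := exists_perp_value h2 hA hB he hu0 hau heu lam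
    obtain ⟨c, hc⟩ := hUe v hev
    obtain ⟨c', hc'⟩ := hUa v hav
    have h1 := Rmap u hu _ hc
    have h3 := Rmap u hu _ hc'
    rw [sie_apply hA hev, hue, huv, mul_zero, add_zero, zero_smul, add_zero] at h1
    rw [sie_apply hA hav, hua, huv, mul_zero, add_zero, zero_smul, add_zero] at h3
    exact ⟨h1, h3⟩
  have hall : ∀ lam : F, lam ≠ 0 → (lam⁻¹ * lam⁻¹) • e ∈ R := fun lam hl => by
    have h1 := Rmap _ (huea lam).2 _ (huea lam⁻¹).1
    clear_value u
    rw [sympT_apply] at h1
    simp only [map_add, LinearMap.add_apply, hA u, map_smul, LinearMap.smul_apply, hue, hau, he,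
      smul_zero, add_zero, smul_eq_mul, mul_zero, zero_add, mul_one, mul_inv_cancel₀ hl, inv_mul_cancel₀ hl, one_mul,
      one_smul] at h1
    have h1' : lam • a + lam⁻¹ • e ∈ R := by
      rwa [show u + lam • a + (u + lam⁻¹ • e) = lam • a + lam⁻¹ • e by
        linear_combination (norm := module) h2 • u] at h1
    have h3 := Rmap a haR' _ h1'
    rw [sympT_apply, map_add, map_smul, map_smul, hA a, he, smul_zero, zero_add, smul_eq_mul, mul_one, one_mul] at h3
    convert h3 using 1
    rw [smul_add, smul_smul, smul_smul, inv_mul_cancel₀ hl, one_smul]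
    linear_combination (norm := module) -h2 • a
  have heC : e ∈ transCentres hA L := fun c => by
    rcases eq_or_ne c 0 with rfl | hc
    · rw [sympT_zero]; exact L.one_mem
    obtain ⟨r, hr⟩ := hsq c
    obtain ⟨s, hs⟩ := hsq r
    have hs0 : s ≠ 0 := fun h => hc (by rw [← hr, ← hs, h]; ring)
    have := hall s⁻¹ (inv_ne_zero hs0)
    rw [inv_inv, show s * s = r by rw [← hs]; ring] at this
    change sympT hA (r • e) (1 : F) ∈ L at this
    rwa [sympT_smul, hr, mul_one] at this
  have haC : a ∈ transCentres hA L := by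
    have := transCentres_map (transCentres_smul heC μ) (L.inv_mem hg)
    rwa [← hga, BilinIsom.inv_apply_self] at this
  exact top_of_two_centres h2 hB he haC heC hUa hUe

end Cfsg.Lib.Classical.LargeRad
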