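import Mathlib
import Cfsg.Agent.Classical.Symp.LargeRad.Transv

set_option autoImplicit false
set_option linter.unusedVariables false
set_option linter.unusedSimpArgs false
set_option linter.unusedSectionVars false
set_option linter.style.haveILetI false

/-! The value function of a transvection-free full radical, and the orbit points on a hyperbolic line. -/

namespace Cfsg.Lib.Classical.LargeRad

universe u v

variable {F : Type u} [Field F] {V : Type v} [AddCommGroup V] [Module F V] [FiniteDimensional F V]
  {B : LinearMap.BilinForm F V}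

/-- An `L`-invariant set of centres, each with a full transvection-free radical in `L`. -/
structure Rad (hA : B.IsAlt) (L : Subgroup (BilinIsom B)) (O : V → Prop) : Prop where
  ne_zero : ∀ a, O a → a ≠ 0
  hasU : ∀ a, O a → HasU hA L a
  map : ∀ a, O a → ∀ g ∈ L, O ((g : BilinIsom B).1 a)
  smul : ∀ a, O a → ∀ k : F, k ≠ 0 → O (k • a)
  tf : ∀ a, O a → ∀ c : F, sympT hA a c ∈ L → c = 0
  partner : ∀ a, O a → ∃ b, O b ∧ B a b ≠ 0
  trans : ∀ a b, O a → O b → ∃ g ∈ L, ∃ k : F, k ≠ 0 ∧ (g : BilinIsom B).1 a = k • b

/-- The value `c` for which the radical element of class `w` at `a` lies in `L`. -/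
noncomputable def phi (hA : B.IsAlt) (L : Subgroup (BilinIsom B)) (a w : V) : F :=
  Classical.epsilon fun c => sie hA a w c ∈ L

variable {hA : B.IsAlt} {L : Subgroup (BilinIsom B)} {O : V → Prop} (h2 : (2 : F) = 0) (D : Rad hA L O)
include h2 D

theorem phi_mem {a w : V} (ha : O a) (hw : B a w = 0) : sie hA a w (phi hA L a w) ∈ L :=
  Classical.epsilon_spec (p := fun c => sie hA a w c ∈ L) (D.hasU a ha w hw)

theorem phi_eq {a w : V} (ha : O a) (hw : B a w = 0) {c : F} (hc : sie hA a w c ∈ L) : phi hA L a w = c := by
  have h := L.mul_mem (phi_mem h2 D ha hw) hc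
  rw [sie_mul h2 hA hw hw, hA w, add_zero, smul_two h2, sie_zero h2] at h
  linear_combination D.tf a ha _ h - h2 * c

theorem phi_add {a w w' : V} (ha : O a) (hw : B a w = 0) (hw' : B a w' = 0) :
    phi hA L a (w + w') = phi hA L a w + phi hA L a w' + B w w' :=
  phi_eq h2 D ha (by rw [map_add, hw, hw', add_zero])
    (by rw [← sie_mul h2 hA hw hw']; exact L.mul_mem (phi_mem h2 D ha hw) (phi_mem h2 D ha hw'))

theorem phi_zero {a : V} (ha : O a) : phi hA L a 0 = 0 :=
  phi_eq h2 D ha (map_zero _) (by rw [sie_zero h2, sympT_zero]; exact L.one_mem)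

theorem phi_add_centre {a w : V} (ha : O a) (hw : B a w = 0) (k : F) :
    phi hA L a (w + k • a) = phi hA L a w :=
  phi_eq h2 D ha (by rw [map_add, map_smul, hA a, hw, smul_zero, add_zero])
    (by rw [sie_add_centre h2 hA hw]; exact phi_mem h2 D ha hw)

theorem phi_conj {a w : V} (ha : O a) (hw : B a w = 0) {g : BilinIsom B} (hg : g ∈ L) :
    phi hA L (g.1 a) (g.1 w) = phi hA L a w :=
  phi_eq h2 D (D.map a ha g hg) (by rw [BilinIsom.map_form, hw])
    (by rw [← sie_conj]; exact L.mul_mem (L.mul_mem hg (phi_mem h2 D ha hw)) (L.inv_mem hg))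

theorem phi_smul {a w : V} (ha : O a) (hw : B a w = 0) {k : F} (hk : k ≠ 0) :
    phi hA L a (k • w) = k ^ 2 * phi hA L (k • a) w :=
  phi_eq h2 D ha (by rw [map_smul, hw, smul_zero]) (by
    rw [← sie_smul h2 hA hw]
    exact phi_mem h2 D (D.smul a ha k hk) (by rw [map_smul, LinearMap.smul_apply, hw, smul_zero]))

/-- An element fixing `a` preserves the value function at `a`. -/
theorem phi_stab {a w : V} (ha : O a) (hw : B a w = 0) {g : BilinIsom B} (hg : g ∈ L) (hga : g.1 a = a) :
    phi hA L a (g.1 w) = phi hA L a w := by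
  have := phi_conj h2 D ha hw hg
  rwa [hga] at this

variable [Finite F] (hB : B.Nondegenerate) (hd : 4 ≤ Module.finrank F V)
include hB hd

/-- The value function takes every value on the common orthogonal of a hyperbolic pair. -/
theorem exists_phi_value {a e : V} (ha : O a) (he : B a e = 1) (c : F) :
    ∃ u, B a u = 0 ∧ B e u = 0 ∧ phi hA L a u = c := by
  classical
  haveI := Fintype.ofFinite F
  obtain ⟨w, hw0, haw, hew⟩ := exists_perp_ne_zero h2 hA hB hd a e
  have hsw : ∀ s : F, B a (s • w) = 0 := fun s => by rw [map_smul, haw, smul_zero]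
  obtain ⟨b, hb⟩ : ∃ b : F, ∀ s : F, s ≠ 0 → phi hA L a (s • w) ≠ b * s := by
    by_contra hcon
    push Not at hcon
    choose f hf using hcon
    let g : F → {x : F // x ≠ 0} := fun b => ⟨f b, (hf b).1⟩
    have hg : Function.Injective g := fun x y h => by
      have h' : f x = f y := congrArg Subtype.val h
      have := (hf x).2
      rw [h', (hf y).2] at this
      exact (mul_right_cancel₀ (hf y).1 this).symm
    have := Fintype.card_le_of_injective g hg
    rw [Fintype.card_subtype_compl, Fintype.card_subtype_eq] at this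
    have := Fintype.card_pos (α := F)
    omega
  obtain ⟨v, hav, hev, hwv⟩ := exists_perp_value h2 hA hB he hw0 haw hew b
  let G : F → F := fun s => phi hA L a (s • w + v) + phi hA L a v
  have hG : ∀ s, G s = phi hA L a (s • w) + s * b := fun s => by
    simp only [G, phi_add h2 D ha (hsw s) hav, map_smul, LinearMap.smul_apply, hwv, smul_eq_mul]
    linear_combination h2 * phi hA L a v
  have hGinj : Function.Injective G := fun s t h => by
    by_contra hne
    rw [hG, hG] at h
    have hp := phi_add h2 D ha (hsw s) (hsw t)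
    rw [← add_smul, map_smul, map_smul, LinearMap.smul_apply, hA w, smul_zero, smul_zero, add_zero] at hp
    exact hb (s + t) (fun h0 => hne (by linear_combination h0 - h2 * t))
      (by linear_combination hp + h + (phi hA L a (t • w) - b * s) * h2)
  obtain ⟨s, hs⟩ := (Finite.injective_iff_surjective.mp hGinj) (c + phi hA L a v)
  refine ⟨s • w + v, by rw [map_add, hsw, hav, add_zero], by rw [map_add, map_smul, hew, smul_zero, hev, add_zero], ?_⟩
  simp only [G] at hs
  linear_combination hs

/-- A second point in a class of the hyperbolic line puts preimages of its inverse parameter among the centres. -/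
theorem orb_of_value {a e : V} {c : F} (ha : O a) (he : O e) (hae : B a e = 1) (hc : c ≠ 0) (hp : O (e + c • a))
    {u : V} (hau : B a u = 0) (heu : B e u = 0) (hu : phi hA L e u = c⁻¹) : u ≠ 0 ∧ O u := by
  have hea : B e a = 1 := by rw [bil_comm h2 hA, hae]
  have hu0 : u ≠ 0 := by
    rintro rfl
    rw [phi_zero h2 D he] at hu
    exact inv_ne_zero hc hu.symm
  refine ⟨hu0, ?_⟩
  have h1 := D.map _ hp _ (phi_mem h2 D he heu)
  rw [sie_apply hA heu, hu] at h1
  simp only [map_add, LinearMap.add_apply, map_smul, LinearMap.smul_apply, hA e, hae, hau, heu, smul_eq_mul, mul_zero,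
    add_zero, zero_add, mul_one, inv_mul_cancel₀ hc, one_smul] at h1
  have h2' := D.smul _ h1 c⁻¹ (inv_ne_zero hc)
  rw [show c⁻¹ • (e + c • a + e + c • u) = a + u by
    rw [show e + c • a + e + c • u = c • (a + u) by linear_combination (norm := module) h2 • e, smul_smul,
      inv_mul_cancel₀ hc, one_smul]] at h2'
  obtain ⟨w, haw, hew, huw⟩ := exists_perp_value h2 hA hB hae hu0 hau heu 1
  have h3 := D.map _ h2' _ (phi_mem h2 D ha haw)
  rw [sie_apply hA haw] at h3
  simp only [map_add, LinearMap.add_apply, hA a, hA.isRefl _ _ hau, haw, huw, smul_eq_mul, mul_zero, add_zero,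
    zero_add, one_smul, zero_smul] at h3
  rwa [show a + u + a = u by linear_combination (norm := module) h2 • a] at h3

/-- Over fields with more than two elements a hyperbolic line holds one centre in each class. -/
theorem cons_of_big (hq : 2 < Nat.card F) {a e : V} {c : F} (ha : O a) (he : O e) (hae : B a e = 1) (hc : c ≠ 0)
    (hp : O (e + c • a)) : False := by
  classical
  haveI := Fintype.ofFinite F
  have hea : B e a = 1 := by rw [bil_comm h2 hA, hae]
  obtain ⟨u, heu, hau, hu⟩ := exists_phi_value h2 D hB hd he hea c⁻¹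
  obtain ⟨hu0, hOu⟩ := orb_of_value h2 D hB hd ha he hae hc hp hau heu hu
  have hue : B u e = 0 := hA.isRefl _ _ heu
  have huk : ∀ k : F, B u (k • e) = 0 := fun k => by rw [map_smul, hue, smul_zero]
  have key : ∀ k : F, (phi hA L u (k • e) = 0 → phi hA L e (k • u) = 0) ∧
      ∀ A : F, phi hA L e ((phi hA L u (k • e) * A) • u) = phi hA L u (k • e) * A ^ 2 := by
    intro k
    set G := phi hA L u (k • e) with hG
    have hg : sie hA u (k • e) G ∈ L := phi_mem h2 D hOu (huk k)
    have hge : (sie hA u (k • e) G).1 e = e := by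
      rw [sie_apply hA (huk k), map_smul, hA e, heu]; module
    constructor
    · intro h0
      refine phi_eq h2 D he (by rw [map_smul, heu, smul_zero]) ?_
      rw [h0, sie_symm h2 hA (huk k), sie_smul h2 hA heu, mul_zero] at hg
      exact hg
    · intro A
      obtain ⟨v, hav, hev, huv⟩ := exists_perp_value h2 hA hB hae hu0 hau heu A
      have hve : B v e = 0 := hA.isRefl _ _ hev
      have hvu : B v u = A := by rw [bil_comm h2 hA, huv]
      have hst := phi_stab h2 D he hev hg hge
      rw [sie_apply hA (huk k), map_smul, hve, hvu, smul_zero, zero_add] at hst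
      rw [show v + (G * A) • u + A • k • e = (v + (G * A) • u) + (A * k) • e by module,
        phi_add_centre h2 D he (by rw [map_add, map_smul, hev, heu, smul_zero, add_zero]),
        phi_add h2 D he hev (by rw [map_smul, heu, smul_zero]), map_smul, hvu, smul_eq_mul] at hst
      linear_combination hst - h2 * (G * A ^ 2)
  by_cases hall : ∀ k : F, phi hA L u (k • e) = 0
  · have := (key 1).1 (hall 1)
    rw [one_smul, hu] at this
    exact inv_ne_zero hc this
  push Not at hall
  obtain ⟨k₀, hk₀⟩ := hall
  have hval : ∀ k, phi hA L u (k • e) ≠ 0 → phi hA L u (k • e) = c := fun k hk => by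
    have := (key k).2 (phi hA L u (k • e))⁻¹
    rw [mul_inv_cancel₀ hk, one_smul, hu] at this
    field_simp at this
    exact this
  obtain ⟨k, k', hne, hkk⟩ : ∃ k k' : F, k ≠ k' ∧ phi hA L u (k • e) = phi hA L u (k' • e) := by
    by_contra hcon
    push Not at hcon
    have hinj : Function.Injective fun k : F => phi hA L u (k • e) := fun x y h => by
      by_contra hne; exact hcon x y hne h
    have h3 : (Finset.univ.image fun k : F => phi hA L u (k • e)) ⊆ {0, c} := fun x hx => by
      obtain ⟨k, -, rfl⟩ := Finset.mem_image.mp hx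
      by_cases h : phi hA L u (k • e) = 0
      · simp [h]
      · simp [hval k h]
    have := (Finset.card_le_card h3).trans Finset.card_le_two
    rw [Finset.card_image_of_injective _ hinj, Finset.card_univ, ← Nat.card_eq_fintype_card] at this
    omega
  have hz := (key (k + k')).1 (by
    rw [add_smul, phi_add h2 D hOu (huk k) (huk k'), hkk, map_smul, map_smul, LinearMap.smul_apply, hA e,
      smul_zero, smul_zero, add_zero]
    linear_combination h2 * phi hA L u (k' • e))
  have hA' := (key k₀).2 ((k + k') / c)
  rw [hval k₀ hk₀, mul_div_cancel₀ _ hc, hz] at hA'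
  refine mul_ne_zero hc (pow_ne_zero 2 (div_ne_zero (fun h => hne ?_) hc)) hA'.symm
  linear_combination h - h2 * k'

end Cfsg.Lib.Classical.LargeRad
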