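import Mathlib
import Cfsg.Agent.Classical.Symp.LargeRad.Phi

set_option autoImplicit false
set_option linter.unusedVariables false
set_option linter.unusedSimpArgs false
set_option linter.unusedSectionVars false
set_option linter.style.haveILetI false

/-! The field with two elements: one centre in each class of a hyperbolic line, except in dimension four. -/

namespace Cfsg.Lib.Classical.LargeRad

universe u v

variable {F : Type u} [Field F] {V : Type v} [AddCommGroup V] [Module F V] [FiniteDimensional F V]
  {B : LinearMap.BilinForm F V}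

/-- One centre in each class of a hyperbolic line. -/
def Cons (B : LinearMap.BilinForm F V) (O : V → Prop) : Prop :=
  ∀ a e : V, ∀ c : F, O a → O e → B a e = 1 → O (e + c • a) → c = 0

variable {hA : B.IsAlt} {L : Subgroup (BilinIsom B)} {O : V → Prop} (h2 : (2 : F) = 0) (D : Rad hA L O)
include h2 D

theorem eq_zero_or_one (hq : Nat.card F = 2) (x : F) : x = 0 ∨ x = 1 := by
  classical
  haveI : Finite F := Nat.finite_of_card_ne_zero (by omega)
  haveI := Fintype.ofFinite F
  by_contra h
  push Not at h
  have h3 : Finset.card ({x, 0, 1} : Finset F) = 3 := by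
    rw [Finset.card_insert_of_notMem (by simp [h.1, h.2]), Finset.card_pair zero_ne_one]
  have := Finset.card_le_univ ({x, 0, 1} : Finset F)
  rw [← Nat.card_eq_fintype_card, hq, h3] at this
  omega

variable [Finite F] (hB : B.Nondegenerate)
include hB

/-- A common zero of the value functions at `a` and `e` gives the value at a second point of the line. -/
theorem phi_line {a e s : V} {c : F} (ha : O a) (he : O e) (hae : B a e = 1) (hp : O (e + c • a)) (hs0 : s ≠ 0)
    (has : B a s = 0) (hes : B e s = 0) (h1 : phi hA L a (c • s) = 0) (h2' : phi hA L e s = 0) (A : F) :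
    phi hA L (e + c • a) ((c * A) • s) = c * A ^ 2 := by
  have hea : B e a = 1 := by rw [bil_comm h2 hA, hae]
  have hcs : B a (c • s) = 0 := by rw [map_smul, has, smul_zero]
  have hgL := L.mul_mem (phi_mem h2 D ha hcs) (phi_mem h2 D he hes)
  rw [h1, h2'] at hgL
  obtain ⟨v, hav, hev, hsv⟩ := exists_perp_value h2 hA hB hae hs0 has hes A
  have hvs : B v s = A := by rw [bil_comm h2 hA, hsv]
  have hsa : B s a = 0 := hA.isRefl _ _ has
  have hse : B s e = 0 := hA.isRefl _ _ hes
  have hva : B v a = 0 := hA.isRefl _ _ hav
  have hve : B v e = 0 := hA.isRefl _ _ hev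
  have hgp : (sie hA a (c • s) 0 * sie hA e s 0).1 (e + c • a) = e + c • a := by
    rw [BilinIsom.mul_apply', sie_apply hA hes, sie_apply hA hcs]
    simp only [map_add, map_smul, LinearMap.add_apply, LinearMap.smul_apply, hA a, hA e, hA s, has, hes, hsa, hse,
      hae, hea, smul_eq_mul, mul_zero, zero_mul, add_zero, zero_add, mul_one, one_smul, zero_smul]
    linear_combination (norm := module) h2 • (c • s)
  have hpv : B (e + c • a) v = 0 := by
    rw [map_add, map_smul, LinearMap.add_apply, LinearMap.smul_apply, hav, hev, smul_zero, add_zero]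
  have hps : B (e + c • a) ((c * A) • s) = 0 := by
    simp only [map_add, map_smul, LinearMap.add_apply, LinearMap.smul_apply, has, hes, smul_zero, add_zero]
  have hst := phi_stab h2 D hp hpv hgL hgp
  rw [BilinIsom.mul_apply', sie_apply hA hes, sie_apply hA hcs] at hst
  simp only [map_add, map_smul, LinearMap.add_apply, LinearMap.smul_apply, hA a, hA e, hA s, has, hes, hsa, hse,
    hae, hea, hva, hve, hvs, smul_eq_mul, mul_zero, zero_mul, add_zero, zero_add, mul_one, one_smul,
    zero_smul] at hst
  rw [show v + A • e + (c * A) • a + A • c • s = (v + (c * A) • s) + A • (e + c • a) by module,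
    phi_add_centre h2 D hp (by rw [map_add, hpv, hps, add_zero]), phi_add h2 D hp hpv hps, map_smul, hvs,
    smul_eq_mul] at hst
  linear_combination hst - h2 * (c * A ^ 2)

variable (hq : Nat.card F = 2)
include hq

/-- Over two elements the value functions at both ends of a hyperbolic line share their zeros. -/
theorem phi_zero_of_pair (hd : 5 ≤ Module.finrank F V) {a e u : V} (ha : O a) (he : O e) (hae : B a e = 1)
    (hau : B a u = 0) (heu : B e u = 0) (hu : phi hA L e u = 0) : phi hA L a u = 0 := by
  classical
  rcases eq_or_ne u 0 with rfl | hu0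
  · exact phi_zero h2 D ha
  by_contra hne
  have hau1 : phi hA L a u = 1 := (eq_zero_or_one h2 D hq _).resolve_left hne
  have hea : B e a = 1 := by rw [bil_comm h2 hA, hae]
  set X := Submodule.span F ({a, e, u} : Set V) with hX
  have hX3 : Module.finrank F X ≤ 3 := by
    refine (finrank_span_le_card _).trans ?_
    simp only [Set.toFinset_insert, Set.toFinset_singleton]
    exact Finset.card_le_three
  obtain ⟨z, hz, hzX⟩ : ∃ z ∈ B.orthogonal X, z ∉ Submodule.span F ({u} : Set V) := by
    by_contra hcon
    push Not at hcon
    have h1 := Submodule.finrank_mono (show B.orthogonal X ≤ Submodule.span F ({u} : Set V) from hcon)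
    rw [finrank_span_singleton hu0, LinearMap.BilinForm.finrank_orthogonal hB] at h1
    omega
  have haz : B a z = 0 := hz a (Submodule.subset_span (by simp))
  have hez : B e z = 0 := hz e (Submodule.subset_span (by simp))
  have huz : B u z = 0 := hz u (Submodule.subset_span (by simp))
  set w := z + phi hA L a z • u with hw
  have haw : B a w = 0 := by rw [hw, map_add, map_smul, haz, hau, smul_zero, add_zero]
  have hew : B e w = 0 := by rw [hw, map_add, map_smul, hez, heu, smul_zero, add_zero]
  have huw : B u w = 0 := by rw [hw, map_add, map_smul, huz, hA u, smul_zero, add_zero]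
  have hw1 : phi hA L a w = 0 := by
    rw [hw, phi_add h2 D ha haz (by rw [map_smul, hau, smul_zero]), map_smul, hA.isRefl _ _ huz, smul_zero, add_zero]
    rcases eq_zero_or_one h2 D hq (phi hA L a z) with h | h
    · rw [h, zero_smul, phi_zero h2 D ha, add_zero]
    · rw [h, one_smul, hau1]; linear_combination h2
  have hwu : w ∉ Submodule.span F ({a, e, u} : Set V) ⊓ Submodule.span F ({u} : Set V) := fun h => by
    apply hzX
    have := h.2
    rw [hw] at this
    exact (Submodule.add_mem_iff_left _ (Submodule.smul_mem _ _ (Submodule.mem_span_singleton_self u))).mp this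
  have hwu' : w ∉ X := fun h => by
    refine hwu ⟨h, ?_⟩
    obtain ⟨r, x, hx, hwx⟩ := Submodule.mem_span_insert.mp h
    obtain ⟨s, y, hy, hxy⟩ := Submodule.mem_span_insert.mp hx
    obtain ⟨t, rfl⟩ := Submodule.mem_span_singleton.mp hy
    have hr : r = 0 := by
      have := congrArg (B e) hwx
      rw [hew, hxy, map_add, map_add, map_smul, map_smul, map_smul, hea, hA e, heu] at this
      simpa using this.symm
    have hs : s = 0 := by
      have := congrArg (B a) hwx
      rw [haw, hxy, map_add, map_add, map_smul, map_smul, map_smul, hae, hA a, hau] at this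
      simpa using this.symm
    rw [hwx, hxy, hr, hs, zero_smul, zero_smul, zero_add, zero_add]
    exact Submodule.smul_mem _ _ (Submodule.mem_span_singleton_self u)
  obtain ⟨v₀, hv₀, hwv₀⟩ := exists_nonorth_of_notMem hA hB X hwu'
  set v := (B w v₀)⁻¹ • v₀ with hv
  have hwv : B w v = 1 := by rw [hv, map_smul, smul_eq_mul, inv_mul_cancel₀ hwv₀]
  have hvw : B v w = 1 := by rw [bil_comm h2 hA, hwv]
  have hav : B a v = 0 := by rw [hv, map_smul, hv₀ a (Submodule.subset_span (by simp)), smul_zero]
  have hev : B e v = 0 := by rw [hv, map_smul, hv₀ e (Submodule.subset_span (by simp)), smul_zero]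
  have huv : B u v = 0 := by rw [hv, map_smul, hv₀ u (Submodule.subset_span (by simp)), smul_zero]
  have hA1 := phi_mem h2 D ha haw
  have hA2 := phi_mem h2 D he heu
  rw [hw1] at hA1
  rw [hu] at hA2
  have hg := L.mul_mem (L.mul_mem (L.mul_mem hA1 hA2) hA1) hA2
  have hwa : B w a = 0 := hA.isRefl _ _ haw
  have hwe : B w e = 0 := hA.isRefl _ _ hew
  have hua : B u a = 0 := hA.isRefl _ _ hau
  have hue : B u e = 0 := hA.isRefl _ _ heu
  have hwu2 : B w u = 0 := hA.isRefl _ _ huw
  have hva : B v a = 0 := hA.isRefl _ _ hav
  have hve : B v e = 0 := hA.isRefl _ _ hev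
  have hvu : B v u = 0 := hA.isRefl _ _ huv
  have hga : (sie hA a w 0 * sie hA e u 0 * sie hA a w 0 * sie hA e u 0).1 a = a := by
    simp only [BilinIsom.mul_apply', sie_apply hA haw, sie_apply hA heu, map_add, map_smul, LinearMap.add_apply,
      LinearMap.smul_apply, hA a, hA e, hA u, hA w, hau, heu, haw, hew, huw, hwu2, hwa, hwe, hua, hue, hae, hea,
      smul_eq_mul, mul_zero, zero_mul, add_zero, zero_add, mul_one, one_mul, one_smul, zero_smul]
    first
      | module
      | linear_combination (norm := module) h2 • u
      | linear_combination (norm := module) h2 • a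
      | linear_combination (norm := module) h2 • u + h2 • a
      | linear_combination (norm := module) h2 • e + h2 • a
      | linear_combination (norm := module) h2 • e + h2 • u + h2 • a
  have hst := phi_stab h2 D ha hav hg hga
  have happly : (sie hA a w 0 * sie hA e u 0 * sie hA a w 0 * sie hA e u 0).1 v = v + u := by
    simp only [BilinIsom.mul_apply', sie_apply hA haw, sie_apply hA heu, map_add, map_smul, LinearMap.add_apply,
      LinearMap.smul_apply, hA a, hA e, hA u, hA w, hau, heu, haw, hew, huw, hwu2, hwa, hwe, hua, hue, hae, hea,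
      hva, hve, hvw, hvu, smul_eq_mul, mul_zero, zero_mul, add_zero, zero_add, mul_one, one_mul, one_smul, zero_smul]
    first
      | module
      | linear_combination (norm := module) h2 • u
      | linear_combination (norm := module) h2 • a
      | linear_combination (norm := module) h2 • u + h2 • a
      | linear_combination (norm := module) h2 • e + h2 • a
      | linear_combination (norm := module) h2 • e + h2 • u + h2 • a
  rw [happly, phi_add h2 D ha hav hau, hvu, hau1] at hst
  exact one_ne_zero (by linear_combination hst : (1 : F) = 0)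

theorem cons_of_two (hd : 5 ≤ Module.finrank F V) : Cons B O := by
  classical
  intro a e c ha he hae hp
  rcases eq_zero_or_one h2 D hq c with rfl | rfl
  · rfl
  exfalso
  rw [one_smul] at hp
  have hea : B e a = 1 := by rw [bil_comm h2 hA, hae]
  have hap : B a (e + a) = 1 := by rw [map_add, hae, hA a, add_zero]
  obtain ⟨s, hs0, has, hes, hs⟩ : ∃ s, s ≠ 0 ∧ B a s = 0 ∧ B e s = 0 ∧ phi hA L a s = 0 := by
    obtain ⟨u, hu0, hau, heu⟩ := exists_perp_ne_zero h2 hA hB (by omega) a e
    set X := Submodule.span F ({a, e, u} : Set V) with hX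
    have hX3 : Module.finrank F X ≤ 3 := by
      refine (finrank_span_le_card _).trans ?_
      simp only [Set.toFinset_insert, Set.toFinset_singleton]
      exact Finset.card_le_three
    obtain ⟨z, hz, hzu⟩ : ∃ z ∈ B.orthogonal X, z ∉ Submodule.span F ({u} : Set V) := by
      by_contra hcon
      push Not at hcon
      have h1 := Submodule.finrank_mono (show B.orthogonal X ≤ Submodule.span F ({u} : Set V) from hcon)
      rw [finrank_span_singleton hu0, LinearMap.BilinForm.finrank_orthogonal hB] at h1
      omega
    have haz : B a z = 0 := hz a (Submodule.subset_span (by simp))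
    have hez : B e z = 0 := hz e (Submodule.subset_span (by simp))
    have huz : B u z = 0 := hz u (Submodule.subset_span (by simp))
    rcases eq_zero_or_one h2 D hq (phi hA L a u) with h | h
    · exact ⟨u, hu0, hau, heu, h⟩
    refine ⟨z + phi hA L a z • u, fun h0 => hzu ?_, by rw [map_add, map_smul, haz, hau, smul_zero, add_zero],
      by rw [map_add, map_smul, hez, heu, smul_zero, add_zero], ?_⟩
    · rw [eq_neg_of_add_eq_zero_left h0]
      exact Submodule.neg_mem _ (Submodule.smul_mem _ _ (Submodule.mem_span_singleton_self u))
    · rw [phi_add h2 D ha haz (by rw [map_smul, hau, smul_zero]), map_smul, hA.isRefl _ _ huz, smul_zero, add_zero]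
      rcases eq_zero_or_one h2 D hq (phi hA L a z) with h' | h'
      · rw [h', zero_smul, phi_zero h2 D ha, add_zero]
      · rw [h', one_smul, h]; linear_combination h2
  have hes' := phi_zero_of_pair h2 D hB hq hd he ha hea hes has hs
  have hps : B (e + a) s = 0 := by rw [map_add, LinearMap.add_apply, has, hes, add_zero]
  have hps' := phi_zero_of_pair h2 D hB hq hd hp ha (by rw [bil_comm h2 hA, hap]) hps has hs
  have := phi_line h2 D hB (c := 1) ha he hae (by rwa [one_smul]) hs0 has hes (by rwa [one_smul]) hes' 1
  rw [one_smul, one_mul, one_smul, hps'] at this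
  exact one_ne_zero (by linear_combination -this : (1 : F) = 0)

/-- In dimension four, failure of `Cons` makes every nonzero vector a centre. -/
theorem all_centres (hd : Module.finrank F V = 4) (hnc : ¬ Cons B O) (v : V) (hv : v ≠ 0) : O v := by
  classical
  simp only [Cons] at hnc
  push Not at hnc
  obtain ⟨a, e, c, ha, he, hae, hp, hc⟩ := hnc
  obtain rfl : c = 1 := (eq_zero_or_one h2 D hq c).resolve_left hc
  rw [one_smul] at hp
  have hea : B e a = 1 := by rw [bil_comm h2 hA, hae]
  have hap : B a (e + a) = 1 := by rw [map_add, hae, hA a, add_zero]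
  have hd4 : 4 ≤ Module.finrank F V := hd.ge
  have hW : ∀ w, w ≠ 0 → B a w = 0 → B e w = 0 → O w := fun w hw0 haw hew => by
    rcases eq_zero_or_one h2 D hq (phi hA L e w) with h1 | h1
    swap
    · exact (orb_of_value h2 D hB hd4 ha he hae one_ne_zero (by rwa [one_smul]) haw hew
        (by rw [h1, inv_one])).2
    rcases eq_zero_or_one h2 D hq (phi hA L a w) with h3 | h3
    swap
    · exact (orb_of_value h2 D hB hd4 he ha hea one_ne_zero (by rwa [one_smul, add_comm]) hew haw
        (by rw [h3, inv_one])).2
    have h4 := phi_line h2 D hB (c := 1) ha he hae (by rwa [one_smul]) hw0 haw hew (by rwa [one_smul]) h1 1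
    rw [one_smul, one_mul, one_smul, one_pow, mul_one] at h4
    refine (orb_of_value h2 D hB hd4 ha hp hap one_ne_zero ?_ haw ?_ (by rw [h4, inv_one])).2
    · rw [one_smul, show e + a + a = e by linear_combination (norm := module) h2 • a]; exact he
    · rw [map_add, LinearMap.add_apply, haw, hew, add_zero]
  have hva := hA.isRefl
  set π := perpPart B a e v with hπ
  have hπa := perpPart_left h2 hA hae v
  have hπe := perpPart_right h2 hA hae v
  have hdec := eq_perpPart h2 hA hae v
  rw [← hπ] at hdec
  rcases eq_or_ne π 0 with h0 | h0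
  · rw [h0, zero_add] at hdec
    rcases eq_zero_or_one h2 D hq (B v e) with h1 | h1 <;> rcases eq_zero_or_one h2 D hq (B v a) with h3 | h3 <;>
      rw [h1, h3] at hdec <;> simp only [zero_smul, one_smul, zero_add, add_zero] at hdec
    · exact absurd hdec hv
    · rw [hdec]; exact he
    · rw [hdec]; exact ha
    · rw [hdec, add_comm]; exact hp
  rcases eq_zero_or_one h2 D hq (B v a) with h3 | h3
  · rcases eq_zero_or_one h2 D hq (B v e) with h1 | h1 <;>
      rw [h1, h3] at hdec <;> simp only [zero_smul, one_smul, zero_add, add_zero] at hdec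
    · rw [hdec]; exact hW π h0 hπa hπe
    · obtain ⟨w, haw, hew, hpw⟩ := exists_perp_value h2 hA hB hae h0 hπa hπe 1
      have := D.map _ (hW π h0 hπa hπe) _ (phi_mem h2 D ha haw)
      rw [sie_apply hA haw, hpw, hA.isRefl _ _ hπa, mul_zero, add_zero, zero_smul, add_zero, one_smul, ← hdec] at this
      exact this
  · have hg := phi_mem h2 D ha hπa
    set f := phi hA L a π
    have g1 := D.map _ he _ hg
    have g2 := D.map _ hp _ hg
    rw [sie_apply hA hπa, hπe, hea, zero_add, mul_one, one_smul] at g1
    rw [sie_apply hA hπa, map_add, LinearMap.add_apply, LinearMap.add_apply, hπe, hπa, hA a, hea, zero_add, zero_add,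
      add_zero, mul_one, one_smul] at g2
    rw [h3, one_smul] at hdec
    rcases eq_zero_or_one h2 D hq (B v e) with h1 | h1 <;> rcases eq_zero_or_one h2 D hq f with hf | hf <;>
      rw [hf] at g1 g2 <;> rw [h1] at hdec <;> simp only [zero_smul, one_smul, zero_add, add_zero] at hdec g1 g2
    · rwa [hdec, add_comm]
    · rw [hdec, show π + e = e + a + a + π by linear_combination (norm := module) -h2 • a]; exact g2
    · rw [hdec, show π + a + e = e + a + π by abel]; exact g2
    · rw [hdec, show π + a + e = e + a + π by abel]; exact g1

end Cfsg.Lib.Classical.LargeRad
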