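import Mathlib
import Cfsg.Agent.Classical.Symp.LargeRad.Binary

set_option autoImplicit false
set_option linter.unusedVariables false
set_option linter.unusedSimpArgs false
set_option linter.unusedSectionVars false
set_option linter.style.haveILetI false

/-! One centre per class gives an invariant quadratic form. -/

namespace Cfsg.Lib.Classical.LargeRad

universe u v

variable {F : Type u} [Field F] {V : Type v} [AddCommGroup V] [Module F V] [FiniteDimensional F V]
  {B : LinearMap.BilinForm F V}

/-- The transposition of the two centres followed by the reflection in `w`. -/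
noncomputable def flipElt (hA : B.IsAlt) (L : Subgroup (BilinIsom B)) (a e w : V) : BilinIsom B :=
  sie hA a w (phi hA L a w) *
    sie hA e ((phi hA L a w)⁻¹ • w) (phi hA L e ((phi hA L a w)⁻¹ • w)) * sie hA a w (phi hA L a w)

/-- The quadratic form of a hyperbolic pair of centres. -/
noncomputable def pairForm (hA : B.IsAlt) (L : Subgroup (BilinIsom B)) (a e v : V) : F :=
  B v e * B v a + phi hA L a (perpPart B a e v)

variable {hA : B.IsAlt} {L : Subgroup (BilinIsom B)} {O : V → Prop} (h2 : (2 : F) = 0) (D : Rad hA L O)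
  (hC : Cons B O) (hB : B.Nondegenerate) (hd : 4 ≤ Module.finrank F V)
include h2 D hC hB hd

theorem phi_inv_smul {a e w : V} (ha : O a) (he : O e) (hae : B a e = 1) (haw : B a w = 0) (hew : B e w = 0)
    (hne : phi hA L a w ≠ 0) :
    phi hA L e ((phi hA L a w)⁻¹ • w) = (phi hA L a w)⁻¹ := by
  have hea : B e a = 1 := by rw [bil_comm h2 hA, hae]
  set l := phi hA L a w
  set u := l⁻¹ • w with hu
  have hau : B a u = 0 := by rw [hu, map_smul, haw, smul_zero]
  have heu : B e u = 0 := by rw [hu, map_smul, hew, smul_zero]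
  have hwu : B w u = 0 := by rw [hu, map_smul, hA w, smul_zero]
  have h1 := D.smul _ (D.map _ he _ (phi_mem h2 D ha haw)) l⁻¹ (inv_ne_zero hne)
  rw [sie_apply hA haw, hew, hea, zero_add, mul_one, one_smul] at h1
  have h1' : O (a + u + l⁻¹ • e) := by
    convert h1 using 1
    rw [hu, smul_add, smul_add, smul_smul, inv_mul_cancel₀ hne, one_smul]
    abel
  have h3 := D.map _ h1' _ (phi_mem h2 D he heu)
  rw [sie_apply hA heu] at h3
  simp only [map_add, LinearMap.add_apply, map_smul, LinearMap.smul_apply, hA e, hA u, hau, heu, hae,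
    hA.isRefl _ _ heu, smul_eq_mul, mul_zero, add_zero, zero_add, mul_one, one_smul] at h3
  have h4 := hC e a (phi hA L e u + l⁻¹) he ha hea (by
    convert h3 using 1
    linear_combination (norm := module) -h2 • u)
  linear_combination h4 - h2 * l⁻¹

theorem flipElt_mem {a e w : V} (ha : O a) (he : O e) (hae : B a e = 1) (haw : B a w = 0) (hew : B e w = 0) :
    flipElt hA L a e w ∈ L :=
  L.mul_mem (L.mul_mem (phi_mem h2 D ha haw) (phi_mem h2 D he (by rw [map_smul, hew, smul_zero])))
    (phi_mem h2 D ha haw)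

theorem flipElt_apply {a e w : V} (ha : O a) (he : O e) (hae : B a e = 1) (haw : B a w = 0) (hew : B e w = 0)
    (hne : phi hA L a w ≠ 0) :
    (flipElt hA L a e w).1 a = (phi hA L a w)⁻¹ • e ∧ (flipElt hA L a e w).1 e = phi hA L a w • a ∧
      ∀ v, B a v = 0 → B e v = 0 → (flipElt hA L a e w).1 v = v + ((phi hA L a w)⁻¹ * B v w) • w := by
  have hea : B e a = 1 := by rw [bil_comm h2 hA, hae]
  have hu := phi_inv_smul h2 D hC hB hd ha he hae haw hew hne
  have hwe : B w e = 0 := hA.isRefl _ _ hew
  have hwa : B w a = 0 := hA.isRefl _ _ haw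
  have heu : B e ((phi hA L a w)⁻¹ • w) = 0 := by rw [map_smul, hew, smul_zero]
  set l := phi hA L a w with hl
  rw [flipElt, hu]
  set A := sie hA a w l with hAdef
  set A' := sie hA e (l⁻¹ • w) l⁻¹ with hA'def
  have hAw : A.1 w = w := by rw [hAdef, sie_apply hA haw, hwa, hA w]; module
  have hAa : A.1 a = a := by rw [hAdef, sie_apply hA haw, haw, hA a]; module
  have hAe : A.1 e = e + l • a + w := by rw [hAdef, sie_apply hA haw, hew, hea]; module
  have hA'w : A'.1 w = w := by rw [hA'def, sie_apply hA heu, hwe, map_smul, hA w]; module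
  have hA'e : A'.1 e = e := by rw [hA'def, sie_apply hA heu, heu, hA e]; module
  have hA'a : A'.1 a = a + l⁻¹ • e + l⁻¹ • w := by
    rw [hA'def, sie_apply hA heu, map_smul, haw, hae]; module
  refine ⟨?_, ?_, fun v hav hev => ?_⟩
  · rw [BilinIsom.mul_apply', BilinIsom.mul_apply', hAa, hA'a]
    simp only [map_add, map_smul, hAa, hAe, hAw, smul_add, smul_smul, inv_mul_cancel₀ hne, one_smul]
    linear_combination (norm := module) h2 • a + h2 • (l⁻¹ • w)
  · rw [BilinIsom.mul_apply', BilinIsom.mul_apply', hAe]
    simp only [map_add, map_smul, hA'a, hA'e, hA'w, hAa, hAe, hAw, smul_add, smul_smul, mul_inv_cancel₀ hne, one_smul]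
    linear_combination (norm := module) h2 • e + h2 • (l • a) + (2 : F) • (h2 • w)
  · have hve : B v e = 0 := hA.isRefl _ _ hev
    have hva : B v a = 0 := hA.isRefl _ _ hav
    have hAv : A.1 v = v + B v w • a := by rw [hAdef, sie_apply hA haw, hva]; module
    have hA'v : A'.1 v = v + (l⁻¹ * B v w) • e := by rw [hA'def, sie_apply hA heu, hve, map_smul, smul_eq_mul]; module
    rw [BilinIsom.mul_apply', BilinIsom.mul_apply', hAv]
    simp only [map_add, map_smul, hA'a, hA'e, hA'w, hA'v, hAa, hAe, hAw, hAv, smul_add, smul_smul]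
    have el : l⁻¹ * l = 1 := inv_mul_cancel₀ hne
    linear_combination (norm := module) h2 • (B v w • a) + (B v w) • (h2 • ((l⁻¹ * l) • a)) +
      (B v w * l⁻¹) • (h2 • e) + (B v w * l⁻¹) • (h2 • w)

theorem phi_flip {a e w v : V} (ha : O a) (he : O e) (hae : B a e = 1) (haw : B a w = 0) (hew : B e w = 0)
    (hne : phi hA L a w ≠ 0) (hav : B a v = 0) (hev : B e v = 0) :
    phi hA L e ((phi hA L a w)⁻¹ • (v + ((phi hA L a w)⁻¹ * B v w) • w)) =
      ((phi hA L a w)⁻¹) ^ 2 * phi hA L a v := by
  obtain ⟨h1, -, h3⟩ := flipElt_apply h2 D hC hB hd ha he hae haw hew hne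
  have := phi_conj h2 D ha hav (flipElt_mem h2 D hC hB hd ha he hae haw hew)
  rw [h1, h3 v hav hev] at this
  rw [phi_smul h2 D he (by rw [map_add, map_smul, hev, hew, smul_zero, add_zero]) (inv_ne_zero hne), this]

variable [Finite F]

theorem phi_line_eq {a e w : V} (ha : O a) (he : O e) (hae : B a e = 1) (haw : B a w = 0) (hew : B e w = 0)
    (hne : phi hA L a w ≠ 0) (t : F) : phi hA L a (t • w) = t ^ 2 * phi hA L a w := by
  classical
  set l := phi hA L a w with hl
  have hsw : ∀ s : F, B a (s • w) = 0 := fun s => by rw [map_smul, haw, smul_zero]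
  have hse : ∀ s : F, B e (s • w) = 0 := fun s => by rw [map_smul, hew, smul_zero]
  have hscal : ∀ s x : F, phi hA L a (s • w) ≠ 0 →
      phi hA L e (x • w) = ((phi hA L a (s • w))⁻¹) ^ 2 * phi hA L a ((x * phi hA L a (s • w)) • w) := by
    intro s x hs
    have := phi_flip h2 D hC hB hd ha he hae (hsw s) (hse s) hs (hsw (x * phi hA L a (s • w)))
      (hse (x * phi hA L a (s • w)))
    simp only [map_smul, LinearMap.smul_apply, hA w, smul_zero, mul_zero, zero_smul, add_zero] at this
    rw [smul_smul, ← mul_assoc, mul_comm _ x, mul_assoc, inv_mul_cancel₀ hs, mul_one] at this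
    exact this
  -- no zero on the line
  have hinj : ∀ t : F, phi hA L a (t • w) = 0 → t = 0 := by
    intro t ht
    by_contra ht0
    have hw0 : w ≠ 0 := fun h => hne (by rw [hl, h, phi_zero h2 D ha])
    obtain ⟨v, hav, hev, hwv⟩ := exists_perp_value h2 hA hB hae hw0 haw hew (l / t)
    have hvw : B v w = l / t := by rw [bil_comm h2 hA, hwv]
    have hne' : phi hA L a ((1 + t) • w) = l := by
      rw [add_smul, one_smul, phi_add h2 D ha haw (hsw t), ht, map_smul, hA w, smul_zero, add_zero, add_zero]
    have h1 := phi_flip h2 D hC hB hd ha he hae (hsw (1 + t)) (hse (1 + t)) (by rw [hne']; exact hne) hav hev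
    rw [hne', ← phi_flip h2 D hC hB hd ha he hae haw hew hne hav hev, ← hl, map_smul, hvw, smul_eq_mul] at h1
    have hd' : (t ^ 2 * (l⁻¹ * l⁻¹ * (l / t))) = l⁻¹ * t := by field_simp
    set p := l⁻¹ • (v + (l⁻¹ * (l / t)) • w) with hp
    have hep : B e p = 0 := by
      rw [hp, map_smul, map_add, map_smul, hev, hew, smul_zero, add_zero, smul_zero]
    rw [show l⁻¹ • (v + (l⁻¹ * ((1 + t) * (l / t))) • (1 + t) • w) = p + (l⁻¹ * t) • w by
      rw [hp]; rw [← hd']
      linear_combination (norm := module) (l⁻¹ * l⁻¹ * (l / t) * t) • (h2 • w),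
      phi_add h2 D he hep (hse _)] at h1
    have hBp : B p ((l⁻¹ * t) • w) = (l⁻¹ * t) * (l⁻¹ * (l / t)) := by
      rw [hp]
      simp only [map_smul, map_add, LinearMap.smul_apply, LinearMap.add_apply, hA w, hvw, smul_eq_mul, mul_zero,
        add_zero]
    have hz : phi hA L e ((l⁻¹ * t) • w) = 0 := by
      rw [hscal 1 _ (by rw [one_smul]; exact hne), one_smul, ← hl, mul_comm _ l, ← mul_assoc,
        mul_inv_cancel₀ hne, one_mul, ht, mul_zero]
    rw [hz, hBp, show (l⁻¹ * t) * (l⁻¹ * (l / t)) = l⁻¹ by field_simp] at h1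
    exact inv_ne_zero hne (by linear_combination h1)
  have hGinj : Function.Injective fun t : F => phi hA L a (t • w) := fun s s' h => by
    have := hinj (s + s') (by
      rw [add_smul, phi_add h2 D ha (hsw s) (hsw s'), map_smul, map_smul, LinearMap.smul_apply, hA w, smul_zero,
        smul_zero, add_zero]
      linear_combination h + h2 * phi hA L a (s' • w))
    linear_combination this - h2 * s'
  obtain ⟨s, hs⟩ := (Finite.injective_iff_surjective.mp hGinj) (t * l)
  rcases eq_or_ne t 0 with rfl | ht
  · rw [zero_smul, phi_zero h2 D ha]; ring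
  simp only at hs
  have hs0 : phi hA L a (s • w) ≠ 0 := by rw [hs]; exact mul_ne_zero ht hne
  have e1 := hscal 1 l⁻¹ (by rw [one_smul]; exact hne)
  rw [hscal s _ hs0, one_smul, ← hl, inv_mul_cancel₀ hne, one_smul, hs, ← hl,
    show l⁻¹ * (t * l) = t by field_simp] at e1
  field_simp at e1
  linear_combination e1

theorem phi_quadratic {a e w : V} (ha : O a) (he : O e) (hae : B a e = 1) (haw : B a w = 0) (hew : B e w = 0)
    (t : F) : phi hA L a (t • w) = t ^ 2 * phi hA L a w := by
  by_cases hne : phi hA L a w = 0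
  · by_contra h
    rw [hne, mul_zero] at h
    have ht : t ≠ 0 := fun h0 => h (by rw [h0, zero_smul, phi_zero h2 D ha])
    have := phi_line_eq h2 D hC hB hd ha he hae (by rw [map_smul, haw, smul_zero] : B a (t • w) = 0)
      (by rw [map_smul, hew, smul_zero]) h t⁻¹
    rw [smul_smul, inv_mul_cancel₀ ht, one_smul, hne] at this
    exact mul_ne_zero (pow_ne_zero 2 (inv_ne_zero ht)) h this.symm
  · exact phi_line_eq h2 D hC hB hd ha he hae haw hew hne t

theorem exists_phi_ne {a e : V} (ha : O a) (hae : B a e = 1) :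
    ∃ w, B a w = 0 ∧ B e w = 0 ∧ phi hA L a w ≠ 0 := by
  obtain ⟨w, h1, h3, h4⟩ := exists_phi_value h2 D hB hd ha hae 1
  exact ⟨w, h1, h3, by rw [h4]; exact one_ne_zero⟩

theorem phi_pair_eq {a e v : V} (ha : O a) (he : O e) (hae : B a e = 1) (hav : B a v = 0) (hev : B e v = 0) :
    phi hA L e v = phi hA L a v := by
  have hea : B e a = 1 := by rw [bil_comm h2 hA, hae]
  obtain ⟨w, haw, hew, hne⟩ := exists_phi_ne h2 D hC hB hd ha hae
  set l := phi hA L a w with hl
  set r := v + (l⁻¹ * B v w) • w with hr
  have har : B a r = 0 := by rw [hr, map_add, map_smul, hav, haw, smul_zero, add_zero]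
  have her : B e r = 0 := by rw [hr, map_add, map_smul, hev, hew, smul_zero, add_zero]
  have hra : phi hA L a r = phi hA L a v := by
    rw [hr, phi_add h2 D ha hav (by rw [map_smul, haw, smul_zero]),
      phi_quadratic h2 D hC hB hd ha he hae haw hew, ← hl, map_smul, smul_eq_mul]
    field_simp
    linear_combination h2 * (B v w) ^ 2
  have hrw : B r w = B v w := by
    rw [hr, map_add, LinearMap.add_apply, map_smul, LinearMap.smul_apply, hA w, smul_zero, add_zero]
  have := phi_flip h2 D hC hB hd ha he hae haw hew hne har her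
  rw [← hl, hrw, show r + (l⁻¹ * B v w) • w = v by rw [hr]; linear_combination (norm := module) h2 • ((l⁻¹ * B v w) • w),
    phi_quadratic h2 D hC hB hd he ha hea hev hav, hra] at this
  exact mul_left_cancel₀ (pow_ne_zero 2 (inv_ne_zero hne)) this

theorem phi_scale {a e v : V} (ha : O a) (he : O e) (hae : B a e = 1) (hav : B a v = 0) (hev : B e v = 0) {k : F}
    (hk : k ≠ 0) : phi hA L (k • a) v = phi hA L a v := by
  have := phi_smul h2 D ha hav hk
  rw [phi_quadratic h2 D hC hB hd ha he hae hav hev] at this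
  exact (mul_left_cancel₀ (pow_ne_zero 2 hk) this).symm

theorem pairForm_swap {a e : V} (ha : O a) (he : O e) (hae : B a e = 1) (v : V) :
    pairForm hA L e a v = pairForm hA L a e v := by
  rw [pairForm, pairForm, mul_comm, show perpPart B e a v = perpPart B a e v by rw [perpPart, perpPart]; abel,
    phi_pair_eq h2 D hC hB hd ha he hae (perpPart_left h2 hA hae v) (perpPart_right h2 hA hae v)]

theorem pairForm_centre {a e : V} (ha : O a) (hae : B a e = 1) : pairForm hA L a e a = 0 := by
  rw [pairForm, hA a, mul_zero, zero_add, perpPart, hae, hA a, zero_smul, add_zero, one_smul, smul_two h2,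
    phi_zero h2 D ha]

theorem pairForm_smul {a e : V} (ha : O a) (he : O e) (hae : B a e = 1) (c : F) (v : V) :
    pairForm hA L a e (c • v) = c ^ 2 * pairForm hA L a e v := by
  rw [pairForm, pairForm, show perpPart B a e (c • v) = c • perpPart B a e v by
    simp only [perpPart, map_smul, LinearMap.smul_apply]; module,
    phi_quadratic h2 D hC hB hd ha he hae (perpPart_left h2 hA hae v) (perpPart_right h2 hA hae v)]
  simp only [map_smul, LinearMap.smul_apply, smul_eq_mul]
  ring

theorem pairForm_add {a e : V} (ha : O a) (hae : B a e = 1) (x y : V) :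
    pairForm hA L a e (x + y) = pairForm hA L a e x + pairForm hA L a e y + B x y := by
  have hea : B e a = 1 := by rw [bil_comm h2 hA, hae]
  rw [pairForm, pairForm, pairForm, show perpPart B a e (x + y) = perpPart B a e x + perpPart B a e y by
    simp only [perpPart, map_add, LinearMap.add_apply]; module,
    phi_add h2 D ha (perpPart_left h2 hA hae x) (perpPart_left h2 hA hae y)]
  simp only [perpPart, map_add, map_smul, LinearMap.add_apply, LinearMap.smul_apply, hA a, hA e, hae, hea,
    bil_comm h2 hA a y, bil_comm h2 hA e y, smul_eq_mul]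
  linear_combination (2 * (B x a * B y e + B x e * B y a)) * h2

/-- Two partners of the same centre give the same form. -/
theorem pairForm_partner {a e e' : V} (ha : O a) (he : O e) (he' : O e') (hae : B a e = 1) (hae' : B a e' = 1)
    (v : V) : pairForm hA L a e' v = pairForm hA L a e v := by
  have hea : B e a = 1 := by rw [bil_comm h2 hA, hae]
  have he'a : B e' a = 1 := by rw [bil_comm h2 hA, hae']
  set w := perpPart B a e e' with hw
  have haw := perpPart_left h2 hA hae e'
  have hew := perpPart_right h2 hA hae e'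
  rw [← hw] at haw hew
  have hdec := eq_perpPart h2 hA hae e'
  rw [← hw, he'a, one_smul] at hdec
  set f := phi hA L a w with hf
  have hg := phi_mem h2 D ha haw
  rw [← hf] at hg
  have h1 := D.map _ he _ hg
  rw [sie_apply hA haw, hew, hea, zero_add, mul_one, one_smul] at h1
  have hc := hC a (e + f • a + w) (B e' e + f) ha h1
    (by rw [map_add, map_add, map_smul, hA a, hae, haw, smul_zero, add_zero, add_zero]) (by
    convert he' using 1
    conv_rhs => rw [hdec]
    linear_combination (norm := module) h2 • (f • a))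
  have hfe : B e' e = f := by linear_combination hc - h2 * f
  rw [hfe] at hdec
  have hgv : perpPart B a e' v = perpPart B a e v + B v a • w + (B v w + B v a * f + B v a * f) • a := by
    have e1 : B v e' = B v w + f * B v a + B v e := by
      conv_lhs => rw [hdec]
      rw [map_add, map_add, map_smul, smul_eq_mul]
    simp only [perpPart]
    rw [e1]
    conv_lhs => arg 2; arg 2; rw [hdec]
    linear_combination (norm := module) -h2 • (0 : V)
  rw [pairForm, pairForm, hgv,
    phi_add_centre h2 D ha (by rw [map_add, map_smul, perpPart_left h2 hA hae v, haw, smul_zero, add_zero]),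
    phi_add h2 D ha (perpPart_left h2 hA hae v) (by rw [map_smul, haw, smul_zero]),
    phi_quadratic h2 D hC hB hd ha he hae haw hew, ← hf]
  conv_lhs => arg 1; arg 1; rw [hdec]
  simp only [perpPart, map_add, map_smul, LinearMap.add_apply, LinearMap.smul_apply, hfe, haw, hew, smul_eq_mul,
    mul_zero, add_zero]
  linear_combination h2 * (B v a * B v w + B v a ^ 2 * f)

theorem pairForm_scale {a e : V} (ha : O a) (he : O e) (hae : B a e = 1) {k : F} (hk : k ≠ 0) (v : V) :
    pairForm hA L (k • a) (k⁻¹ • e) v = pairForm hA L a e v := by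
  rw [pairForm, pairForm, show perpPart B (k • a) (k⁻¹ • e) v = perpPart B a e v by
    simp only [perpPart, map_smul, smul_eq_mul, smul_smul]
    match_scalars <;> field_simp,
    phi_scale h2 D hC hB hd ha he hae (perpPart_left h2 hA hae v) (perpPart_right h2 hA hae v) hk]
  simp only [map_smul, smul_eq_mul]
  field_simp

theorem pairForm_conj {a e : V} (ha : O a) (hae : B a e = 1) {g : BilinIsom B} (hg : g ∈ L) (v : V) :
    pairForm hA L (g.1 a) (g.1 e) (g.1 v) = pairForm hA L a e v := by
  rw [pairForm, pairForm, show perpPart B (g.1 a) (g.1 e) (g.1 v) = g.1 (perpPart B a e v) by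
    simp only [perpPart, map_add, map_smul, BilinIsom.map_form],
    phi_conj h2 D ha (perpPart_left h2 hA hae v) hg, BilinIsom.map_form, BilinIsom.map_form]

/-- Scaling a partner into a pair. -/
theorem pairForm_edge {a e b : V} (ha : O a) (he : O e) (hae : B a e = 1) (hb : O b) (hab : B a b ≠ 0) :
    O ((B a b)⁻¹ • b) ∧ B a ((B a b)⁻¹ • b) = 1 ∧
      ∀ v, pairForm hA L a ((B a b)⁻¹ • b) v = pairForm hA L a e v := by
  have h1 := D.smul _ hb _ (inv_ne_zero hab)
  have h3 : B a ((B a b)⁻¹ • b) = 1 := by rw [map_smul, smul_eq_mul, inv_mul_cancel₀ hab]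
  exact ⟨h1, h3, pairForm_partner h2 D hC hB hd ha he h1 hae h3⟩

/-- The form of one pair is invariant under `L`. -/
theorem pairForm_invariant {a e : V} (ha : O a) (he : O e) (hae : B a e = 1) {g : BilinIsom B} (hg : g ∈ L) (v : V) :
    pairForm hA L a e (g.1 v) = pairForm hA L a e v := by
  have hea : B e a = 1 := by rw [bil_comm h2 hA, hae]
  have hb := D.map _ ha _ hg
  have hd' := D.map _ he _ hg
  set b := g.1 a with hb_def
  have hbd : B b (g.1 e) = 1 := by rw [hb_def, BilinIsom.map_form, hae]
  obtain ⟨c, hc, hac, hbc⟩ : ∃ c, O c ∧ B a c ≠ 0 ∧ B b c ≠ 0 := by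
    by_cases hba : B b a = 0
    swap
    · -- the centres are already joined
      by_cases hbe : B b e = 0
      · obtain ⟨z, haz, hez, hz⟩ : ∃ z, B a z = 0 ∧ B e z = 0 ∧ B b z + phi hA L a z * B b a ≠ 0 := by
          obtain ⟨z, hz0, h1, h3⟩ := exists_perp_ne_zero h2 hA hB hd a e
          obtain ⟨z', h1', h3', hzz⟩ := exists_perp_value h2 hA hB hae hz0 h1 h3 1
          by_cases hA1 : B b z + phi hA L a z * B b a = 0
          swap; · exact ⟨z, h1, h3, hA1⟩
          by_cases hA2 : B b z' + phi hA L a z' * B b a = 0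
          swap; · exact ⟨z', h1', h3', hA2⟩
          refine ⟨z + z', by rw [map_add, h1, h1', add_zero], by rw [map_add, h3, h3', add_zero], fun h => hba ?_⟩
          rw [phi_add h2 D ha h1 h1', map_add, hzz] at h
          linear_combination h - hA1 - hA2
        refine ⟨_, D.map _ he _ (phi_mem h2 D ha haz), ?_, ?_⟩
        · rw [sie_apply hA haz, hez, hea, zero_add, mul_one, one_smul, map_add, map_add, map_smul, hae, hA a, haz,
            smul_zero, add_zero, add_zero]
          exact one_ne_zero
        · rw [sie_apply hA haz, hez, hea, zero_add, mul_one, one_smul, map_add, map_add, map_smul, hbe, smul_eq_mul,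
            zero_add, add_comm]
          exact hz
      · exact ⟨e, he, by rw [hae]; exact one_ne_zero, hbe⟩
    · by_cases hbe : B b e = 0
      · have hb0 := D.ne_zero _ hb
        obtain ⟨z, haz, hez, hz⟩ :=
          exists_perp_value h2 hA hB hae hb0 (hA.isRefl _ _ hba) (hA.isRefl _ _ hbe) 1
        refine ⟨_, D.map _ he _ (phi_mem h2 D ha haz), ?_, ?_⟩
        · rw [sie_apply hA haz, hez, hea, zero_add, mul_one, one_smul, map_add, map_add, map_smul, hae, hA a, haz,
            smul_zero, add_zero, add_zero]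
          exact one_ne_zero
        · rw [sie_apply hA haz, hez, hea, zero_add, mul_one, one_smul, map_add, map_add, map_smul, hbe, hba, hz,
            smul_zero, add_zero, zero_add]
          exact one_ne_zero
      · exact ⟨e, he, by rw [hae]; exact one_ne_zero, hbe⟩
  obtain ⟨hc', hac', hq1⟩ := pairForm_edge h2 D hC hB hd ha he hae hc hac
  obtain ⟨hc'', hbc', hq2⟩ := pairForm_edge h2 D hC hB hd hb hd' hbd hc hbc
  rw [← pairForm_conj h2 D hC hB hd ha hae hg v, ← hb_def, ← hq2, ← hq1,
    ← pairForm_swap h2 D hC hB hd ha hc' hac', ← pairForm_swap h2 D hC hB hd hb hc'' hbc']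
  set k := B a c * (B b c)⁻¹ with hk
  have hk0 : k ≠ 0 := mul_ne_zero hac (inv_ne_zero hbc)
  have e1 : (B b c)⁻¹ • c = k • ((B a c)⁻¹ • c) := by
    rw [smul_smul, hk, mul_comm (B a c), mul_assoc, mul_inv_cancel₀ hac, mul_one]
  have hca : B ((B a c)⁻¹ • c) a = 1 := by rw [bil_comm h2 hA, hac']
  rw [e1, show b = k⁻¹ • (k • b) by rw [smul_smul, inv_mul_cancel₀ hk0, one_smul]]
  have hcb : B ((B a c)⁻¹ • c) (k • b) = 1 := by
    simp only [map_smul, LinearMap.smul_apply, smul_eq_mul, bil_comm h2 hA c b, hk]
    field_simp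
  rw [pairForm_scale h2 D hC hB hd hc' (D.smul _ hb _ hk0) hcb hk0]
  exact (pairForm_partner h2 D hC hB hd hc' ha (D.smul _ hb _ hk0) hca hcb (g.1 v)).symm

end Cfsg.Lib.Classical.LargeRad
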