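import Mathlib
import Cfsg.Agent.Classical.Symp.LargeRad.Form

set_option autoImplicit false
set_option linter.unusedVariables false
set_option linter.unusedSimpArgs false
set_option linter.unusedSectionVars false
set_option linter.style.haveILetI false

/-! The two radicals of a hyperbolic pair and one reflection generate the orthogonal group. -/

namespace Cfsg.Lib.Classical.LargeRad

universe u v

variable {F : Type u} [Field F] {V : Type v} [AddCommGroup V] [Module F V] [FiniteDimensional F V]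
  {B : LinearMap.BilinForm F V}

/-- The generating elements of the two radicals at a hyperbolic pair. -/
def radGens (hA : B.IsAlt) (L : Subgroup (BilinIsom B)) (a e : V) : Set (BilinIsom B) :=
  {g | ∃ w, B a w = 0 ∧ B e w = 0 ∧ (g = sie hA a w (phi hA L a w) ∨ g = sie hA e w (phi hA L e w))}

/-- The subgroup generated by the two radicals. -/
def radGroup (hA : B.IsAlt) (L : Subgroup (BilinIsom B)) (a e : V) : Subgroup (BilinIsom B) :=
  Subgroup.closure (radGens hA L a e)

variable {hA : B.IsAlt} {L : Subgroup (BilinIsom B)} {O : V → Prop} (h2 : (2 : F) = 0) (D : Rad hA L O)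
  (hC : Cons B O) (hB : B.Nondegenerate) (hd : 4 ≤ Module.finrank F V) [Finite F]
  {a e : V} (ha : O a) (he : O e) (hae : B a e = 1)
include h2 D hC hB hd ha he hae

local notation "MM" => radGroup hA L a e
local notation "QQ" => pairForm hA L a e

theorem sie_left_mem {w : V} (haw : B a w = 0) (hew : B e w = 0) : sie hA a w (phi hA L a w) ∈ MM :=
  Subgroup.subset_closure ⟨w, haw, hew, Or.inl rfl⟩

theorem sie_right_mem {w : V} (haw : B a w = 0) (hew : B e w = 0) : sie hA e w (phi hA L e w) ∈ MM :=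
  Subgroup.subset_closure ⟨w, haw, hew, Or.inr rfl⟩

theorem radGroup_le : MM ≤ L := (Subgroup.closure_le L).mpr (by
  rintro g ⟨w, haw, hew, rfl | rfl⟩
  exacts [phi_mem h2 D ha haw, phi_mem h2 D he hew])

theorem pairForm_perp {w : V} (haw : B a w = 0) (hew : B e w = 0) : QQ w = phi hA L a w := by
  rw [pairForm, perpPart, hA.isRefl _ _ haw, hA.isRefl _ _ hew, zero_smul, zero_smul, add_zero, add_zero, mul_zero,
    zero_add]

theorem flip_mem {w : V} (haw : B a w = 0) (hew : B e w = 0) : flipElt hA L a e w ∈ MM :=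
  mul_mem (mul_mem (sie_left_mem h2 D hC hB hd ha he hae haw hew)
    (sie_right_mem h2 D hC hB hd ha he hae (by rw [map_smul, haw, smul_zero]) (by rw [map_smul, hew, smul_zero])))
    (sie_left_mem h2 D hC hB hd ha he hae haw hew)

/-- A scaling of the pair. -/
theorem exists_scale (hsq : ∀ x : F, ∃ r : F, r ^ 2 = x) {t : F} (ht : t ≠ 0) :
    ∃ m ∈ MM, (m : BilinIsom B).1 a = t • a ∧ (m : BilinIsom B).1 e = t⁻¹ • e := by
  obtain ⟨w, haw, hew, hne⟩ := exists_phi_ne h2 D hC hB hd ha hae (e := e)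
  obtain ⟨s, hs⟩ := hsq t
  have hs0 : s ≠ 0 := fun h => ht (by rw [← hs, h]; ring)
  have haw' : B a (s • w) = 0 := by rw [map_smul, haw, smul_zero]
  have hew' : B e (s • w) = 0 := by rw [map_smul, hew, smul_zero]
  have hv : phi hA L a (s • w) = t * phi hA L a w := by
    rw [phi_quadratic h2 D hC hB hd ha he hae haw hew, hs]
  have hne' : phi hA L a (s • w) ≠ 0 := by rw [hv]; exact mul_ne_zero ht hne
  obtain ⟨h1, h1', -⟩ := flipElt_apply h2 D hC hB hd ha he hae haw hew hne
  obtain ⟨h3, h3', -⟩ := flipElt_apply h2 D hC hB hd ha he hae haw' hew' hne'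
  refine ⟨flipElt hA L a e (s • w) * flipElt hA L a e w,
    mul_mem (flip_mem h2 D hC hB hd ha he hae haw' hew') (flip_mem h2 D hC hB hd ha he hae haw hew), ?_, ?_⟩
  · rw [BilinIsom.mul_apply', h1, map_smul, h3', smul_smul, hv]
    congr 1; field_simp
  · rw [BilinIsom.mul_apply', h1', map_smul, h3, smul_smul, hv]
    congr 1; field_simp

theorem exists_quad_value {u : V} (hu0 : u ≠ 0) (hau : B a u = 0) (heu : B e u = 0) (α β : F) :
    ∃ u', B a u' = 0 ∧ B e u' = 0 ∧ B u u' + α * phi hA L e u' = β := by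
  have hea : B e a = 1 := by rw [bil_comm h2 hA, hae]
  rcases eq_or_ne α 0 with rfl | hα
  · obtain ⟨u', h1, h3, h4⟩ := exists_perp_value h2 hA hB hae hu0 hau heu β
    exact ⟨u', h1, h3, by rw [h4, zero_mul, add_zero]⟩
  -- complete the square
  set u₀ := α⁻¹ • u with hu₀
  have hau₀ : B a u₀ = 0 := by rw [hu₀, map_smul, hau, smul_zero]
  have heu₀ : B e u₀ = 0 := by rw [hu₀, map_smul, heu, smul_zero]
  obtain ⟨z, hez, haz, hz⟩ := exists_phi_value h2 D hB hd he hea (β / α + phi hA L e u₀)
  refine ⟨z + u₀, by rw [map_add, haz, hau₀, add_zero], by rw [map_add, hez, heu₀, add_zero], ?_⟩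
  rw [phi_add h2 D he hez heu₀, hz, map_add, hu₀, map_smul, map_smul, hA u, smul_zero, add_zero, smul_eq_mul,
    bil_comm h2 hA z u]
  linear_combination mul_div_cancel₀ β hα + (B u z) * mul_inv_cancel₀ hα + h2 * (B u z + α * phi hA L e (α⁻¹ • u))

/-- Every nonsingular vector is moved into the common orthogonal. -/
theorem exists_move_perp {v : V} (hv : QQ v ≠ 0) :
    ∃ m ∈ MM, B a ((m : BilinIsom B).1 v) = 0 ∧ B e ((m : BilinIsom B).1 v) = 0 := by
  have hea : B e a = 1 := by rw [bil_comm h2 hA, hae]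
  have step3 : ∀ (u : V) (β₀ : F), B a u = 0 → B e u = 0 → u ≠ 0 →
      ∃ m ∈ MM, B a ((m : BilinIsom B).1 (u + β₀ • a)) = 0 ∧ B e ((m : BilinIsom B).1 (u + β₀ • a)) = 0 := by
    intro u β₀ hau heu hu0
    obtain ⟨w, haw, hew, huw⟩ := exists_perp_value h2 hA hB hae hu0 hau heu β₀
    have e1 : (sie hA a w (phi hA L a w)).1 (u + β₀ • a) = u := by
      rw [sie_apply hA haw]
      simp only [map_add, map_smul, LinearMap.add_apply, LinearMap.smul_apply, hA a, haw, hA.isRefl _ _ hau, huw,
        smul_eq_mul, mul_zero, add_zero, zero_smul]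
      linear_combination (norm := module) h2 • (β₀ • a)
    exact ⟨_, sie_left_mem h2 D hC hB hd ha he hae haw hew, by rw [e1, hau], by rw [e1, heu]⟩
  have step2 : ∀ v, QQ v ≠ 0 → perpPart B a e v ≠ 0 →
      ∃ m ∈ MM, B a ((m : BilinIsom B).1 v) = 0 ∧ B e ((m : BilinIsom B).1 v) = 0 := by
    intro v hv hπ
    set π := perpPart B a e v with hπdef
    have haπ := perpPart_left h2 hA hae v
    have heπ := perpPart_right h2 hA hae v
    rw [← hπdef] at haπ heπ
    obtain ⟨u', hau', heu', hu'⟩ := exists_quad_value h2 D hC hB hd ha he hae hπ haπ heπ (B v e) (B v a)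
    have hdec := eq_perpPart h2 hA hae v
    rw [← hπdef] at hdec
    have e1 : (sie hA e u' (phi hA L e u')).1 v = (π + B v e • u') + B v e • a := by
      rw [sie_apply hA heu']
      conv_lhs => arg 1; arg 1; rw [hdec]
      have : B v u' = B π u' := by
        conv_lhs => rw [hdec]
        simp only [map_add, map_smul, LinearMap.add_apply, LinearMap.smul_apply, hau', heu', smul_zero, add_zero]
      rw [this, show B π u' + phi hA L e u' * B v e = B v a by linear_combination hu']
      linear_combination (norm := module) h2 • (B v a • e)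
    have hne : π + B v e • u' ≠ 0 := fun h => hv (by
      have hu'' : B v e • u' = π := by linear_combination (norm := module) h - h2 • π
      have h3 : B π u' * B v e = 0 := by
        rw [mul_comm, ← smul_eq_mul, ← map_smul, hu'', hA]
      have h4 := congrArg (phi hA L a) hu''
      rw [phi_quadratic h2 D hC hB hd ha he hae hau' heu', ← phi_pair_eq h2 D hC hB hd ha he hae hau' heu'] at h4
      rw [pairForm, ← hπdef, ← h4]
      linear_combination (-(B v e)) * hu' + h3 + h2 * (B v e ^ 2 * phi hA L e u'))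
    obtain ⟨m, hm, hm1, hm2⟩ := step3 (π + B v e • u') (B v e)
      (by rw [map_add, map_smul, haπ, hau', smul_zero, add_zero])
      (by rw [map_add, map_smul, heπ, heu', smul_zero, add_zero]) hne
    exact ⟨m * sie hA e u' (phi hA L e u'), mul_mem hm (sie_right_mem h2 D hC hB hd ha he hae hau' heu'),
      by rw [BilinIsom.mul_apply', e1]; exact hm1, by rw [BilinIsom.mul_apply', e1]; exact hm2⟩
  by_cases hπ : perpPart B a e v = 0
  swap
  · exact step2 v hv hπ
  have hva : B v a ≠ 0 := fun h => hv (by rw [pairForm, hπ, phi_zero h2 D ha, h, mul_zero, add_zero])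
  obtain ⟨w, hw0, haw, hew⟩ := exists_perp_ne_zero h2 hA hB hd a e
  have hm := sie_left_mem h2 D hC hB hd ha he hae haw hew
  set g := sie hA a w (phi hA L a w) with hg
  have hdec := eq_perpPart h2 hA hae v
  rw [hπ, zero_add] at hdec
  have hga : g.1 a = a := by rw [hg, sie_apply hA haw, haw, hA a]; module
  have hgv : QQ (g.1 v) = QQ v :=
    pairForm_invariant h2 D hC hB hd ha he hae (radGroup_le h2 D hC hB hd ha he hae hm) v
  have hp : perpPart B a e (g.1 v) = B v a • w := by
    have hvw : B v w = 0 := by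
      rw [hdec]
      simp only [map_add, map_smul, LinearMap.add_apply, LinearMap.smul_apply, haw, hew, smul_zero, add_zero]
    rw [hg, sie_apply hA haw, hvw, zero_add, perpPart]
    simp only [map_add, map_smul, LinearMap.add_apply, LinearMap.smul_apply, hA a, hae, hA.isRefl _ _ hew,
      hA.isRefl _ _ haw, smul_eq_mul, mul_zero, add_zero, mul_one]
    conv_lhs => arg 1; arg 1; arg 1; arg 1; rw [hdec]
    linear_combination (norm := module) h2 • (B v e • a) + h2 • (B v a • e) +
      h2 • ((phi hA L a w * B v a) • a)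
  obtain ⟨m, hm', hm1, hm2⟩ := step2 (g.1 v) (by rwa [hgv]) (by rw [hp]; exact smul_ne_zero hva hw0)
  exact ⟨m * g, mul_mem hm' hm, by rw [BilinIsom.mul_apply']; exact hm1, by rw [BilinIsom.mul_apply']; exact hm2⟩

theorem sympT_perp_apply {z : V} (haz : B a z = 0) (hez : B e z = 0) (c : F) :
    (sympT hA z c).1 a = a ∧ (sympT hA z c).1 e = e :=
  ⟨by rw [sympT_apply, haz, mul_zero, zero_smul, add_zero], by rw [sympT_apply, hez, mul_zero, zero_smul, add_zero]⟩

theorem refl_conj_rad {z : V} (haz : B a z = 0) (hez : B e z = 0) (hz : phi hA L a z ≠ 0) :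
    ∀ m ∈ MM, sympT hA z (phi hA L a z)⁻¹ * m * (sympT hA z (phi hA L a z)⁻¹)⁻¹ ∈ MM := by
  set r := sympT hA z (phi hA L a z)⁻¹ with hr
  obtain ⟨hra, hre⟩ := sympT_perp_apply h2 D hC hB hd ha he hae haz hez (phi hA L a z)⁻¹
  rw [← hr] at hra hre
  suffices hle : MM ≤ (MM).comap (MulAut.conj r).toMonoidHom from fun m hm => hle hm
  refine (Subgroup.closure_le _).mpr ?_
  rintro g ⟨w, haw, hew, hg⟩
  have harw : B a (r.1 w) = 0 := by rw [← hra, BilinIsom.map_form, haw]
  have herw : B e (r.1 w) = 0 := by rw [← hre, BilinIsom.map_form, hew]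
  have hphi : phi hA L a (r.1 w) = phi hA L a w := by
    rw [hr, sympT_apply, phi_add h2 D ha haw (by rw [map_smul, haz, smul_zero]),
      phi_quadratic h2 D hC hB hd ha he hae haz hez, map_smul, smul_eq_mul]
    field_simp
    linear_combination h2 * B w z ^ 2
  change r * g * r⁻¹ ∈ MM
  rcases hg with rfl | rfl
  · rw [sie_conj, hra, ← hphi]
    exact sie_left_mem h2 D hC hB hd ha he hae harw herw
  · rw [sie_conj, hre, show phi hA L e w = phi hA L e (r.1 w) by
      rw [phi_pair_eq h2 D hC hB hd ha he hae haw hew, phi_pair_eq h2 D hC hB hd ha he hae harw herw, hphi]]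
    exact sie_right_mem h2 D hC hB hd ha he hae harw herw

theorem refl_pair_mem (hsq : ∀ x : F, ∃ r : F, r ^ 2 = x) {z w : V} (haz : B a z = 0) (hez : B e z = 0)
    (hz : phi hA L a z ≠ 0) (haw : B a w = 0) (hew : B e w = 0) (hw : phi hA L a w ≠ 0) :
    sympT hA z (phi hA L a z)⁻¹ * sympT hA w (phi hA L a w)⁻¹ ∈ MM := by
  obtain ⟨s, hs⟩ := hsq (phi hA L a w / phi hA L a z)
  have hs0 : s ≠ 0 := fun h => div_ne_zero hw hz (by rw [← hs, h]; ring)
  have haz' : B a (s • z) = 0 := by rw [map_smul, haz, smul_zero]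
  have hez' : B e (s • z) = 0 := by rw [map_smul, hez, smul_zero]
  have hl : phi hA L a (s • z) = phi hA L a w := by
    rw [phi_quadratic h2 D hC hB hd ha he hae haz hez, hs, div_mul_cancel₀ _ hz]
  obtain ⟨h1, h1', h1''⟩ := flipElt_apply h2 D hC hB hd ha he hae haw hew hw
  obtain ⟨h3, h3', h3''⟩ := flipElt_apply h2 D hC hB hd ha he hae haz' hez' (by rwa [hl])
  convert mul_mem (flip_mem h2 D hC hB hd ha he hae haz' hez') (flip_mem h2 D hC hB hd ha he hae haw hew) using 1
  refine BilinIsom.ext' fun x => ?_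
  obtain ⟨hzA, hzE⟩ := sympT_perp_apply h2 D hC hB hd ha he hae haz hez (phi hA L a z)⁻¹
  obtain ⟨hwA, hwE⟩ := sympT_perp_apply h2 D hC hB hd ha he hae haw hew (phi hA L a w)⁻¹
  rw [eq_perpPart h2 hA hae x]
  simp only [BilinIsom.mul_apply', map_add, map_smul]
  rw [hwA, hwE, hzA, hzE, h1, h1', map_smul, map_smul, h3', h3, hl, smul_smul, smul_smul, smul_smul, smul_smul]
  rw [show B x e * ((phi hA L a w)⁻¹) * phi hA L a w = B x e by field_simp,
    show B x a * phi hA L a w * (phi hA L a w)⁻¹ = B x a by field_simp]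
  congr 2
  have hπ1 := perpPart_left h2 hA hae x
  have hπ2 := perpPart_right h2 hA hae x
  set π := perpPart B a e x
  rw [h1'' π hπ1 hπ2, h3'' _ (by rw [map_add, map_smul, hπ1, haw, smul_zero, add_zero])
    (by rw [map_add, map_smul, hπ2, hew, smul_zero, add_zero]), hl, sympT_apply, sympT_apply]
  simp only [map_smul, smul_eq_mul, smul_smul]
  congr 2
  have : (phi hA L a w)⁻¹ * s * s = (phi hA L a z)⁻¹ := by
    rw [mul_assoc, ← sq, hs]; field_simp
  linear_combination -B (π + ((phi hA L a w)⁻¹ * B π w) • w) z * this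

/-- Reflections lie in the two cosets of the radical group. -/
theorem refl_coset (hsq : ∀ x : F, ∃ r : F, r ^ 2 = x) {z : V} (haz : B a z = 0) (hez : B e z = 0)
    (hz : phi hA L a z ≠ 0) {v : V} (hv : QQ v ≠ 0) :
    sympT hA z (phi hA L a z)⁻¹ * sympT hA v (QQ v)⁻¹ ∈ MM := by
  obtain ⟨m, hm, hm1, hm2⟩ := exists_move_perp h2 D hC hB hd ha he hae hv
  have hQ : QQ v = phi hA L a (m.1 v) := by
    rw [← pairForm_invariant h2 D hC hB hd ha he hae (radGroup_le h2 D hC hB hd ha he hae hm) v,
      pairForm_perp h2 D hC hB hd ha he hae hm1 hm2]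
  have hnz : phi hA L a (m.1 v) ≠ 0 := hQ ▸ hv
  set r := sympT hA z (phi hA L a z)⁻¹ with hr
  have e1 : sympT hA v (QQ v)⁻¹ = m⁻¹ * sympT hA (m.1 v) (QQ v)⁻¹ * m := by
    rw [← sympT_conj hA m v]; group
  rw [e1, hQ, show r * (m⁻¹ * sympT hA (m.1 v) (phi hA L a (m.1 v))⁻¹ * m) =
    (r * m⁻¹ * r⁻¹) * (r * sympT hA (m.1 v) (phi hA L a (m.1 v))⁻¹) * m by group]
  exact mul_mem (mul_mem (refl_conj_rad h2 D hC hB hd ha he hae haz hez hz _ (inv_mem hm))
    (refl_pair_mem h2 D hC hB hd ha he hae hsq haz hez hz hm1 hm2 hnz)) hm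

/-- The union of the two cosets. -/
def twoCosets {z : V} (haz : B a z = 0) (hez : B e z = 0) (hz : phi hA L a z ≠ 0) : Subgroup (BilinIsom B) where
  carrier := {g | g ∈ MM ∨ sympT hA z (phi hA L a z)⁻¹ * g ∈ MM}
  one_mem' := Or.inl (one_mem _)
  mul_mem' := by
    intro g h hg hh
    set r := sympT hA z (phi hA L a z)⁻¹ with hr
    have hrr : r * r = 1 := by rw [hr, ← sympT_add, smul_two h2, sympT_zero]
    have hri : r⁻¹ = r := inv_eq_of_mul_eq_one_right hrr
    have hc : ∀ m ∈ MM, r * m * r ∈ MM := fun m hm => by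
      have := refl_conj_rad h2 D hC hB hd ha he hae haz hez hz m hm
      rwa [← hr, hri] at this
    rcases hg with hg | hg <;> rcases hh with hh | hh
    · exact Or.inl (mul_mem hg hh)
    · refine Or.inr ?_
      have := mul_mem (hc g hg) hh
      rwa [show r * g * r * (r * h) = r * g * (r * r) * h by simp only [mul_assoc], hrr, mul_one, mul_assoc] at this
    · refine Or.inr ?_
      rw [← mul_assoc]; exact mul_mem hg hh
    · refine Or.inl ?_
      have := mul_mem (hc _ hg) hh
      rwa [show r * (r * g) * r * (r * h) = (r * r) * g * (r * r) * h by simp only [mul_assoc], hrr, one_mul,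
        mul_one] at this
  inv_mem' := by
    intro g hg
    set r := sympT hA z (phi hA L a z)⁻¹ with hr
    have hrr : r * r = 1 := by rw [hr, ← sympT_add, smul_two h2, sympT_zero]
    have hri : r⁻¹ = r := inv_eq_of_mul_eq_one_right hrr
    rcases hg with hg | hg
    · exact Or.inl (inv_mem hg)
    · refine Or.inr ?_
      have := refl_conj_rad h2 D hC hB hd ha he hae haz hez hz _ (inv_mem hg)
      rwa [← hr, mul_inv_rev, hri, show r * (g⁻¹ * r) * r = r * g⁻¹ * (r * r) by simp only [mul_assoc], hrr,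
        mul_one] at this

end Cfsg.Lib.Classical.LargeRad
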