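import Mathlib
import Cfsg.Agent.Classical.Symp.LargeRad.Gen
import Cfsg.Agent.Classical.Symp.OrthMax

set_option autoImplicit false
set_option linter.unusedVariables false
set_option linter.unusedSimpArgs false
set_option linter.unusedSectionVars false
set_option linter.style.haveILetI false

/-! Dimension four: the two radicals and one reflection generate the orthogonal group, over every field. -/

namespace Cfsg.Lib.Classical.LargeRad

universe u v

variable {F : Type u} [Field F] {V : Type v} [AddCommGroup V] [Module F V] [FiniteDimensional F V]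
  {B : LinearMap.BilinForm F V}
variable {hA : B.IsAlt} {L : Subgroup (BilinIsom B)} {O : V → Prop} (h2 : (2 : F) = 0) (D : Rad hA L O)
  (hC : Cons B O) (hB : B.Nondegenerate) (hd : 4 ≤ Module.finrank F V) [Finite F]
  (hsq : ∀ x : F, ∃ r : F, r ^ 2 = x)
  {a e : V} (ha : O a) (he : O e) (hae : B a e = 1)
include h2 D hC hB hd hsq ha he hae

local notation "MM" => radGroup hA L a e
local notation "QQ" => pairForm hA L a e

/-- A singular vector is carried to the first centre. -/
theorem exists_move_centre {v : V} (hv0 : v ≠ 0) (hv : QQ v = 0) :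
    ∃ m ∈ MM, (m : BilinIsom B).1 v = a := by
  have hea : B e a = 1 := by rw [bil_comm h2 hA, hae]
  suffices hmain : ∀ v : V, v ≠ 0 → QQ v = 0 → ∃ m ∈ MM, ∃ t : F, (m : BilinIsom B).1 v = t • a by
    obtain ⟨m, hm, t, ht⟩ := hmain v hv0 hv
    have ht0 : t ≠ 0 := fun h => hv0 (m.1.injective (by rw [ht, h, zero_smul, map_zero]))
    obtain ⟨s, hs, hsa, -⟩ := exists_scale h2 D hC hB hd ha he hae hsq (inv_ne_zero ht0)
    exact ⟨s * m, mul_mem hs hm, by
      rw [BilinIsom.mul_apply', ht, map_smul, hsa, smul_smul, mul_inv_cancel₀ ht0, one_smul]⟩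
  have case1 : ∀ v : V, B v a ≠ 0 → QQ v = 0 → ∃ m ∈ MM, ∃ t : F, (m : BilinIsom B).1 v = t • a := by
    intro v hva hv
    set π := perpPart B a e v with hπ
    have haπ := perpPart_left h2 hA hae v
    have heπ := perpPart_right h2 hA hae v
    rw [← hπ] at haπ heπ
    set w := (B v a)⁻¹ • π with hw
    have haw : B a w = 0 := by rw [hw, map_smul, haπ, smul_zero]
    have hew : B e w = 0 := by rw [hw, map_smul, heπ, smul_zero]
    have hm := sie_left_mem h2 D hC hB hd ha he hae haw hew
    have hdec := eq_perpPart h2 hA hae v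
    rw [← hπ] at hdec
    have hvw : B v w = 0 := by
      conv_lhs => rw [hdec]
      simp only [hw, map_add, map_smul, LinearMap.add_apply, LinearMap.smul_apply, hA π, haπ, heπ, smul_zero, add_zero]
    have hphi : phi hA L a w * (B v a * B v a) = phi hA L a π := by
      rw [hw, phi_quadratic h2 D hC hB hd ha he hae haπ heπ]
      field_simp
    have hz : B v e + phi hA L a w * B v a = 0 := by
      refine (mul_eq_zero.mp ?_).resolve_right hva
      rw [pairForm, ← hπ, ← hphi] at hv
      linear_combination hv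
    have e1 : (sie hA a w (phi hA L a w)).1 v = B v a • e := by
      rw [sie_apply hA haw, hvw, zero_add, hw, smul_smul, mul_inv_cancel₀ hva, one_smul, ← hw]
      conv_lhs => arg 1; arg 1; rw [hdec]
      linear_combination (norm := module) hz • a + h2 • π
    obtain ⟨z, haz, hez, hz0⟩ := exists_phi_ne h2 D hC hB hd ha hae (e := e)
    obtain ⟨-, hfe, -⟩ := flipElt_apply h2 D hC hB hd ha he hae haz hez hz0
    exact ⟨_, mul_mem (flip_mem h2 D hC hB hd ha he hae haz hez) hm, _, by
      rw [BilinIsom.mul_apply', e1, map_smul, hfe, smul_smul]⟩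
  intro v hv0 hv
  by_cases hva : B v a = 0
  swap
  · exact case1 v hva hv
  set π := perpPart B a e v with hπ
  have haπ := perpPart_left h2 hA hae v
  have heπ := perpPart_right h2 hA hae v
  rw [← hπ] at haπ heπ
  have hdec := eq_perpPart h2 hA hae v
  rw [← hπ, hva, zero_smul, add_zero] at hdec
  rcases eq_or_ne π 0 with h0 | h0
  · exact ⟨1, one_mem _, B v e, by
      rw [BilinIsom.one_apply']
      conv_lhs => rw [hdec, h0, zero_add]⟩
  obtain ⟨u, hau, heu, hu⟩ := exists_quad_value h2 D hC hB hd ha he hae h0 haπ heπ (B v e) 1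
  have hm := sie_right_mem h2 D hC hB hd ha he hae hau heu
  have hinv := pairForm_invariant h2 D hC hB hd ha he hae (radGroup_le h2 D hC hB hd ha he hae hm) v
  have hne : B ((sie hA e u (phi hA L e u)).1 v) a ≠ 0 := by
    rw [sie_apply hA heu]
    have hvu : B v u = B π u := by
      conv_lhs => rw [hdec]
      rw [map_add, LinearMap.add_apply, map_smul, LinearMap.smul_apply, hau, smul_zero, add_zero]
    simp only [map_add, map_smul, LinearMap.add_apply, LinearMap.smul_apply, hva, hea, hvu, hA.isRefl _ _ hau,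
      smul_eq_mul, mul_zero, mul_one, zero_add, add_zero]
    rw [show B π u + phi hA L e u * B v e = 1 by linear_combination hu]
    exact one_ne_zero
  obtain ⟨m, hm', t, ht⟩ := case1 _ hne (by rw [hinv, hv])
  exact ⟨m * sie hA e u (phi hA L e u), mul_mem hm' hm, t, by rw [BilinIsom.mul_apply']; exact ht⟩

/-- In dimension four every isometry of the form lies in one of the two cosets. -/
theorem isom_coset_four (h4 : Module.finrank F V = 4) {z : V} (haz : B a z = 0) (hez : B e z = 0)
    (hz : phi hA L a z ≠ 0) (g : BilinIsom B) (hg : ∀ x, QQ (g.1 x) = QQ x) :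
    g ∈ twoCosets h2 D hC hB hd ha he hae haz hez hz := by
  classical
  set T := twoCosets h2 D hC hB hd ha he hae haz hez hz with hT
  have hMT : MM ≤ T := fun m hm => Or.inl hm
  have hrefl : ∀ v, QQ v ≠ 0 → sympT hA v (QQ v)⁻¹ ∈ T := fun v hv =>
    Or.inr (refl_coset h2 D hC hB hd ha he hae hsq haz hez hz hv)
  have hea : B e a = 1 := by rw [bil_comm h2 hA, hae]
  have hz0 : z ≠ 0 := fun h => hz (by rw [h, phi_zero h2 D ha])
  obtain ⟨d, had, hed, hzd⟩ := exists_perp_value h2 hA hB hae hz0 haz hez 1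
  have hdz : B d z = 1 := by rw [bil_comm h2 hA, hzd]
  -- `a`, `e`, `z`, `d` span
  let lc : (Fin 4 → F) →ₗ[F] V := Fintype.linearCombination F ![a, e, z, d]
  have hlc : ∀ c : Fin 4 → F, lc c = c 0 • a + c 1 • e + c 2 • z + c 3 • d := fun c => by
    simp [lc, Fintype.linearCombination_apply, Fin.sum_univ_four]
  have hinj : Function.Injective lc := by
    rw [← LinearMap.ker_eq_bot, LinearMap.ker_eq_bot']
    intro c hc
    rw [hlc] at hc
    have c1 := congrArg (B a) hc
    have c0 := congrArg (B e) hc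
    have c3 := congrArg (B z) hc
    have c2 := congrArg (B d) hc
    simp [map_add, map_smul, hA a, hA e, hA z, hA d, hae, hea, haz, hez, had, hed, hzd, hdz, hA.isRefl _ _ haz,
      hA.isRefl _ _ hez, hA.isRefl _ _ had, hA.isRefl _ _ hed] at c0 c1 c2 c3
    funext i
    fin_cases i <;> simp [c0, c1, c2, c3]
  have hspan : ∀ x : V, ∃ c : Fin 4 → F, c 0 • a + c 1 • e + c 2 • z + c 3 • d = x := fun x => by
    obtain ⟨c, hc⟩ := (LinearMap.injective_iff_surjective_of_finrank_eq_finrank
      (by rw [Module.finrank_fin_fun, h4])).mp hinj x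
    exact ⟨c, by rw [← hlc, hc]⟩
  -- move `g a` to `a`
  have ha0 := D.ne_zero a ha
  obtain ⟨m₁, hm₁, hm₁a⟩ := exists_move_centre h2 D hC hB hd hsq ha he hae (v := g.1 a)
    (fun h => ha0 (g.1.injective (by rw [h, map_zero]))) (by rw [hg, pairForm_centre h2 D hC hB hd ha hae])
  set g₁ := m₁ * g with hg₁
  have hg₁Q : ∀ x, QQ (g₁.1 x) = QQ x := fun x => by
    rw [hg₁, BilinIsom.mul_apply', pairForm_invariant h2 D hC hB hd ha he hae (radGroup_le h2 D hC hB hd ha he hae hm₁),
      hg]
  have hg₁a : g₁.1 a = a := by rw [hg₁, BilinIsom.mul_apply', hm₁a]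
  -- move the image of `e`
  set e' := g₁.1 e with he'
  have he'a : B e' a = 1 := by
    conv_lhs => arg 2; rw [← hg₁a]
    rw [he', BilinIsom.map_form, hea]
  set π := perpPart B a e e' with hπ
  have haπ := perpPart_left h2 hA hae e'
  have heπ := perpPart_right h2 hA hae e'
  rw [← hπ] at haπ heπ
  have hQe : QQ e' = 0 := by
    rw [he', hg₁Q, ← pairForm_swap h2 D hC hB hd ha he hae, pairForm_centre h2 D hC hB hd he hea]
  rw [pairForm, he'a, mul_one, ← hπ] at hQe
  have hdec := eq_perpPart h2 hA hae e'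
  rw [← hπ, he'a, one_smul] at hdec
  have hm₂ := sie_left_mem h2 D hC hB hd ha he hae haπ heπ
  set g₂ := sie hA a π (phi hA L a π) * g₁ with hg₂
  have hg₂Q : ∀ x, QQ (g₂.1 x) = QQ x := fun x => by
    rw [hg₂, BilinIsom.mul_apply',
      pairForm_invariant h2 D hC hB hd ha he hae (radGroup_le h2 D hC hB hd ha he hae hm₂), hg₁Q]
  have hg₂a : g₂.1 a = a := by
    rw [hg₂, BilinIsom.mul_apply', hg₁a, sie_apply hA haπ, haπ, hA a]; module
  have hg₂e : g₂.1 e = e := by
    rw [hg₂, BilinIsom.mul_apply', ← he', sie_apply hA haπ, he'a]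
    have : B e' π = 0 := by
      conv_lhs => rw [hdec]
      rw [map_add, map_add, LinearMap.add_apply, LinearMap.add_apply, map_smul, LinearMap.smul_apply, hA π, haπ, heπ,
        smul_zero, add_zero, add_zero]
    rw [this]
    conv_lhs => arg 1; arg 1; rw [hdec]
    linear_combination (norm := module) hQe • a + h2 • π
  suffices hgoal : g₂ ∈ T by
    have h1 : g = m₁⁻¹ * ((sie hA a π (phi hA L a π))⁻¹ * g₂) := by rw [hg₂, hg₁]; group
    rw [h1]
    exact T.mul_mem (T.inv_mem (hMT hm₁)) (T.mul_mem (T.inv_mem (hMT hm₂)) hgoal)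
  -- an isometry of the plane
  have hperp : ∀ h : BilinIsom B, h.1 a = a → h.1 e = e → ∀ x, B a x = 0 → B e x = 0 →
      B a (h.1 x) = 0 ∧ B e (h.1 x) = 0 := fun h h1 h3 x hx hx' =>
    ⟨by rw [← h1, BilinIsom.map_form, hx], by rw [← h3, BilinIsom.map_form, hx']⟩
  obtain ⟨r₁, hr₁T, hr₁a, hr₁e, hr₁z⟩ : ∃ r ∈ T, (r : BilinIsom B).1 a = a ∧ (r : BilinIsom B).1 e = e ∧
      (r : BilinIsom B).1 (g₂.1 z) = z := by
    obtain ⟨hyA, hyE⟩ := hperp g₂ hg₂a hg₂e z haz hez
    set y := g₂.1 z with hy
    by_cases hyz : B y z = 0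
    · refine ⟨1, T.one_mem, by simp [BilinIsom.one_apply'], by simp [BilinIsom.one_apply'], ?_⟩
      rw [BilinIsom.one_apply']
      obtain ⟨c, hc⟩ := hspan y
      have k1 : c 1 = 0 := by
        have := congrArg (B a) hc
        simpa [hA a, hae, haz, had, hyA] using this
      have k0 : c 0 = 0 := by
        have := congrArg (B e) hc
        simpa [hA e, hea, hez, hed, hyE] using this
      have k3 : c 3 = 0 := by
        have := congrArg (fun v => B v z) hc
        simpa [k0, k1, hA z, hdz, hyz] using this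
      rw [k0, k1, k3, zero_smul, zero_smul, zero_smul, zero_add, zero_add, add_zero] at hc
      have hcz : phi hA L a y = (c 2) ^ 2 * phi hA L a z := by
        rw [← hc, phi_quadratic h2 D hC hB hd ha he hae haz hez]
      rw [← pairForm_perp h2 D hC hB hd ha he hae hyA hyE, hy, hg₂Q, pairForm_perp h2 D hC hB hd ha he hae haz hez]
        at hcz
      have h1 : (c 2 + 1) ^ 2 = 0 := by
        have := mul_right_cancel₀ hz (show (1 : F) * phi hA L a z = (c 2) ^ 2 * phi hA L a z by rw [one_mul]; exact hcz)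
        linear_combination -this + h2 * (c 2 + 1)
      have h3 : c 2 = 1 := by linear_combination (pow_eq_zero_iff (n := 2) two_ne_zero).mp h1 - h2
      rw [← hc, h3, one_smul]
    · have hQ : QQ (y + z) = B y z := by
        rw [pairForm_add h2 D hC hB hd ha hae, hy, hg₂Q]
        linear_combination h2 * QQ z
      refine ⟨_, hrefl (y + z) (by rw [hQ]; exact hyz), ?_, ?_, ?_⟩
      · rw [sympT_apply, map_add, hyA, haz, add_zero, mul_zero, zero_smul, add_zero]
      · rw [sympT_apply, map_add, hyE, hez, add_zero, mul_zero, zero_smul, add_zero]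
      · rw [sympT_apply, hQ, map_add, hA y, zero_add, inv_mul_cancel₀ hyz, one_smul]
        linear_combination (norm := module) h2 • y
  set g₃ := r₁ * g₂ with hg₃
  have hg₃a : g₃.1 a = a := by rw [hg₃, BilinIsom.mul_apply', hg₂a, hr₁a]
  have hg₃e : g₃.1 e = e := by rw [hg₃, BilinIsom.mul_apply', hg₂e, hr₁e]
  have hg₃z : g₃.1 z = z := by rw [hg₃, BilinIsom.mul_apply', hr₁z]
  have hTQ : ∀ r ∈ T, ∀ x, QQ ((r : BilinIsom B).1 x) = QQ x := fun r hr x => by
    have hrz : ∀ x, QQ ((sympT hA z (phi hA L a z)⁻¹).1 x) = QQ x := fun x => by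
      rw [← pairForm_perp h2 D hC hB hd ha he hae haz hez]
      exact qMax_reflection h2 (pairForm_smul h2 D hC hB hd ha he hae) (pairForm_add h2 D hC hB hd ha hae) hA
        (by rw [pairForm_perp h2 D hC hB hd ha he hae haz hez]; exact hz) x
    rcases hr with hr | hr
    · exact pairForm_invariant h2 D hC hB hd ha he hae (radGroup_le h2 D hC hB hd ha he hae hr) x
    · have := pairForm_invariant h2 D hC hB hd ha he hae (radGroup_le h2 D hC hB hd ha he hae hr) x
      rwa [BilinIsom.mul_apply', hrz] at this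
  suffices hgoal : g₃ ∈ T by
    rw [show g₂ = r₁⁻¹ * g₃ by rw [hg₃]; group]
    exact T.mul_mem (T.inv_mem hr₁T) hgoal
  obtain ⟨hdA, hdE⟩ := hperp g₃ hg₃a hg₃e d had hed
  obtain ⟨c, hc⟩ := hspan (g₃.1 d)
  have k1 : c 1 = 0 := by
    have := congrArg (B a) hc
    simpa [hA a, hae, haz, had, hdA] using this
  have k0 : c 0 = 0 := by
    have := congrArg (B e) hc
    simpa [hA e, hea, hez, hed, hdE] using this
  have k3 : c 3 = 1 := by
    have := congrArg (fun v => B v z) hc
    have hdz' : B (g₃.1 d) z = 1 := by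
      conv_lhs => arg 2; rw [← hg₃z]
      rw [BilinIsom.map_form, hdz]
    simpa [k0, k1, hA z, hdz, hdz'] using this
  rw [k0, k1, k3, zero_smul, zero_smul, zero_add, zero_add, one_smul] at hc
  set k := c 2
  have hk : k = 0 ∨ k * phi hA L a z = 1 := by
    have h1 : QQ (g₃.1 d) = QQ d := by rw [hg₃, BilinIsom.mul_apply', hTQ r₁ hr₁T, hg₂Q]
    rw [← hc, pairForm_add h2 D hC hB hd ha hae, pairForm_smul h2 D hC hB hd ha he hae,
      pairForm_perp h2 D hC hB hd ha he hae haz hez, map_smul, LinearMap.smul_apply, hzd, smul_eq_mul, mul_one] at h1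
    rcases eq_or_ne k 0 with hk0 | hk0
    · exact Or.inl hk0
    refine Or.inr (mul_left_cancel₀ hk0 ?_)
    linear_combination h1 - h2 * k
  have hext : ∀ h : BilinIsom B, h.1 a = a → h.1 e = e → h.1 z = z → h.1 d = k • z + d → g₃ = h := by
    intro h e1 e2 e3 e4
    refine BilinIsom.ext' fun x => ?_
    obtain ⟨cx, rfl⟩ := hspan x
    simp only [map_add, map_smul, hg₃a, hg₃e, hg₃z, e1, e2, e3, e4, ← hc]
  rcases hk with hk | hk
  · rw [hext 1 rfl rfl rfl (by rw [hk, zero_smul, zero_add]; rfl)]
    exact T.one_mem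
  · have hzQ : QQ z = phi hA L a z := pairForm_perp h2 D hC hB hd ha he hae haz hez
    have hm := hrefl z (by rw [hzQ]; exact hz)
    rw [hzQ] at hm
    obtain ⟨e1, e2⟩ := sympT_perp_apply h2 D hC hB hd ha he hae haz hez (phi hA L a z)⁻¹
    rw [hext _ e1 e2 (by rw [sympT_apply, hA z, mul_zero, zero_smul, add_zero]) (by
      rw [sympT_apply, hdz, mul_one, show k = (phi hA L a z)⁻¹ by field_simp; linear_combination hk, add_comm])]
    exact hm

end Cfsg.Lib.Classical.LargeRad
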