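import Mathlib
import Cfsg.Agent.Classical.MaxBridge
import Cfsg.Agent.Classical.Misc.Spinor
import Cfsg.Agent.Classical.Misc.SymIndex
import Cfsg.Agent.Classical.Misc.SymSix
import Cfsg.Agent.Classical.Symp.SymEmbedding
import Cfsg.Agent.Known.OmegaRank
import Cfsg.Agent.Classical.Symp.LargeRad.Four

set_option autoImplicit false
set_option linter.unusedVariables false
set_option linter.unusedSimpArgs false
set_option linter.unusedSectionVars false
set_option linter.style.haveILetI false

/-! Matrix forms of the conclusions about irreducible groups with a full radical. -/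

namespace Cfsg.Lib.Classical.LargeRad

open Matrix

universe u

variable {F : Type u} [Field F] {m : ℕ}

theorem sum_eq_sympBilin (h2 : (2 : F) = 0) (x y : Fin m ⊕ Fin m → F) :
    ∑ i : Fin m, (x (Sum.inl i) * y (Sum.inr i) + x (Sum.inr i) * y (Sum.inl i)) = sympBilin m F x y := by
  rw [sympBilin_eq_sum]
  exact Finset.sum_congr rfl fun i _ => by linear_combination (x (Sum.inl i) * y (Sum.inr i)) * h2

theorem preserving_eq_range (h2 : (2 : F) = 0) :
    Cfsg.preserving (Units.coeHom (Matrix (Fin m ⊕ Fin m) (Fin m ⊕ Fin m) F))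
      (fun u v : (Fin m ⊕ Fin m → F) => ∑ i : Fin m, (u (Sum.inl i) * v (Sum.inr i) + u (Sum.inr i) * v (Sum.inl i))) =
      (sympToGL m F).range := by
  rw [range_sympToGL]
  ext g
  change (∀ u v, _ = _) ↔ ∀ u v, Cfsg.sympForm m F _ _ = Cfsg.sympForm m F u v
  simp only [sum_eq_sympBilin h2, sympBilin_eq_sympForm]

theorem range_sub_one (g : BilinIsom (sympBilin m F)) :
    (((sympToGL m F g : GL (Fin m ⊕ Fin m) F) : Matrix (Fin m ⊕ Fin m) (Fin m ⊕ Fin m) F) - 1).mulVecLin =
      g.1.toLinearMap - LinearMap.id := by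
  refine LinearMap.ext fun x => ?_
  rw [Matrix.mulVecLin_apply, Matrix.sub_mulVec, sympToGL_mulVec, Matrix.one_mulVec]
  rfl

theorem rank_sympT (hA : (sympBilin m F).IsAlt) {v : Fin m ⊕ Fin m → F} (hv : v ≠ 0) {c : F} (hc : c ≠ 0) :
    (((sympToGL m F (sympT hA v c) : GL (Fin m ⊕ Fin m) F) : Matrix (Fin m ⊕ Fin m) (Fin m ⊕ Fin m) F) - 1).rank
      = 1 := by
  rw [Matrix.rank, range_sub_one]
  have h : LinearMap.range ((sympT hA v c).1.toLinearMap - LinearMap.id) = Submodule.span F {v} := by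
    refine le_antisymm ?_ ?_
    · rintro _ ⟨x, rfl⟩
      rw [LinearMap.sub_apply, LinearMap.id_apply, LinearEquiv.coe_coe, sympT_apply, add_sub_cancel_left]
      exact Submodule.smul_mem _ _ (Submodule.mem_span_singleton_self v)
    · rw [Submodule.span_singleton_le_iff_mem]
      obtain ⟨u, hu⟩ := exists_hyperbolic_partner (sympBilin_nondegenerate m F) hv
      refine ⟨(-c⁻¹) • u, ?_⟩
      rw [LinearMap.sub_apply, LinearMap.id_apply, LinearEquiv.coe_coe, sympT_apply, add_sub_cancel_left, map_smul,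
        LinearMap.smul_apply, ← hA.neg_eq v u, hu, smul_eq_mul]
      rw [show c * (-c⁻¹ * -1) = 1 by field_simp, one_smul]
  rw [h, finrank_span_singleton hv]

theorem rank_sie (h2 : (2 : F) = 0) (hA : (sympBilin m F).IsAlt) {a e w : Fin m ⊕ Fin m → F}
    (he : sympBilin m F a e = 1) (haw : sympBilin m F a w = 0) (hew : sympBilin m F e w = 0) (hw : w ≠ 0) (c : F) :
    (((sympToGL m F (sie hA a w c) : GL (Fin m ⊕ Fin m) F) : Matrix (Fin m ⊕ Fin m) (Fin m ⊕ Fin m) F) - 1).rank
      = 2 := by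
  rw [Matrix.rank, range_sub_one]
  have hB := sympBilin_nondegenerate m F
  have hea : sympBilin m F e a = 1 := by rw [bil_comm h2 hA, he]
  set T := (sie hA a w c).1.toLinearMap - LinearMap.id with hT
  have hTx : ∀ x, T x = (sympBilin m F x w + c * sympBilin m F x a) • a + sympBilin m F x a • w := fun x => by
    rw [hT, LinearMap.sub_apply, LinearMap.id_apply, LinearEquiv.coe_coe, sie_apply hA haw]
    module
  have h : LinearMap.range T = Submodule.span F {a, w} := by
    refine le_antisymm ?_ ?_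
    · rintro _ ⟨x, rfl⟩
      rw [hTx]
      exact add_mem (Submodule.smul_mem _ _ (Submodule.subset_span (by simp)))
        (Submodule.smul_mem _ _ (Submodule.subset_span (by simp)))
    · obtain ⟨p, hap, -, hwp⟩ := exists_perp_value h2 hA hB he hw haw hew 1
      have ha' : a ∈ LinearMap.range T := ⟨p, by
        rw [hTx, bil_comm h2 hA p w, hwp, hA.isRefl _ _ hap]; module⟩
      rw [Submodule.span_le]
      rintro x (rfl | rfl)
      · exact ha'
      · have := sub_mem (LinearMap.mem_range_self T e) (Submodule.smul_mem _ c ha')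
        rwa [hTx, hew, hea, zero_add, mul_one, one_smul, add_sub_cancel_left] at this
  have hli : LinearIndependent F ![a, w] := by
    rw [LinearIndependent.pair_iff]
    intro s t hst
    have h1 := congrArg (sympBilin m F e) hst
    simp only [map_add, map_smul, hea, hew, smul_eq_mul, mul_zero, mul_one, add_zero, map_zero] at h1
    subst h1
    rw [zero_smul, zero_add, smul_eq_zero] at hst
    exact ⟨rfl, hst.resolve_right hw⟩
  have h3 := finrank_span_eq_card hli
  rw [Matrix.range_cons_cons_empty, Fintype.card_fin] at h3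
  rw [h, h3]

variable [Fintype F]

theorem conclude_cons (h2 : (2 : F) = 0) (hn : 2 ≤ m) (L : Subgroup (GL (Fin m ⊕ Fin m) F))
    (hLG : L ≤ (sympToGL m F).range) {O : (Fin m ⊕ Fin m → F) → Prop} {a e : Fin m ⊕ Fin m → F}
    (D : Rad (sympBilin_isAlt m F) (L.comap (sympToGL m F)) O) (hC : Cons (sympBilin m F) O) (ha : O a) (he : O e)
    (hae : sympBilin m F a e = 1) :
    ∃ Q : QuadraticForm F (Fin m ⊕ Fin m → F), (∀ u v, QuadraticMap.polar ⇑Q u v = sympBilin m F u v) ∧
      (L = Cfsg.isometryGroup F ⇑Q ∨ ∀ g : GL (Fin m ⊕ Fin m) F, g ∈ L ↔ (g ∈ Cfsg.isometryGroup F ⇑Q ∧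
        Even ((g : Matrix (Fin m ⊕ Fin m) (Fin m ⊕ Fin m) F) - 1).rank)) := by
  classical
  set hA := sympBilin_isAlt m F
  have hB := sympBilin_nondegenerate m F
  set L' := L.comap (sympToGL m F) with hL'
  have hd : 4 ≤ Module.finrank F (Fin m ⊕ Fin m → F) := by rw [finrank_sympSpace]; omega
  haveI : CharP F 2 := CharTwo.of_one_ne_zero_of_two_eq_zero one_ne_zero h2
  have hsq : ∀ x : F, ∃ r : F, r ^ 2 = x := fun x => by
    obtain ⟨r, hr⟩ := FiniteField.isSquare_of_char_two (ringChar.eq F 2) x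
    exact ⟨r, by rw [hr, sq]⟩
  have hpol : ∀ x y, QuadraticMap.polar (pairForm hA L' a e) x y = sympBilin m F x y := fun x y => by
    rw [QuadraticMap.polar, pairForm_add h2 D hC hB hd ha hae x y]; ring
  let Q : QuadraticForm F (Fin m ⊕ Fin m → F) := QuadraticMap.ofPolar (pairForm hA L' a e)
    (fun c v => by rw [pairForm_smul h2 D hC hB hd ha he hae c v, smul_eq_mul]; ring)
    (fun x x' y => by rw [hpol, hpol, hpol, map_add, LinearMap.add_apply])
    (fun c x y => by rw [hpol, hpol, map_smul, LinearMap.smul_apply])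
  have hQv : ∀ v, Q v = pairForm hA L' a e v := fun v => rfl
  refine ⟨Q, hpol, ?_⟩
  have hQnd : (QuadraticMap.polarBilin Q).Nondegenerate := by
    have h : QuadraticMap.polarBilin Q = sympBilin m F := LinearMap.ext fun x => LinearMap.ext fun y => hpol x y
    rw [h]; exact hB
  have hinv : ∀ g ∈ L, g ∈ Cfsg.isometryGroup F ⇑Q := fun g hg => by
    obtain ⟨g', rfl⟩ := hLG hg
    refine (Refl.mem_iff Q).mpr fun x => ?_
    rw [sympToGL_mulVec, hQv, hQv]
    exact pairForm_invariant h2 D hC hB hd ha he hae hg x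
  obtain ⟨z, haz, hez, hz⟩ := exists_phi_ne h2 D hC hB hd ha hae (e := e)
  have hz0 : z ≠ 0 := fun h => hz (by rw [h, phi_zero h2 D ha])
  set r := sympT hA z (phi hA L' a z)⁻¹ with hr
  set T := twoCosets h2 D hC hB hd ha he hae haz hez hz with hT
  have hcover : ∀ g : GL (Fin m ⊕ Fin m) F, g ∈ Cfsg.isometryGroup F ⇑Q → ∃ g' ∈ T, sympToGL m F g' = g := by
    intro g hg
    by_cases hm : m = 2
    · have hgr : g ∈ (sympToGL m F).range := by
        rw [← preserving_eq_range h2]
        intro u v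
        change (fun u v : Fin m ⊕ Fin m → F => ∑ i : Fin m, (u (Sum.inl i) * v (Sum.inr i) + u (Sum.inr i) * v (Sum.inl i)))
          ((g : Matrix (Fin m ⊕ Fin m) (Fin m ⊕ Fin m) F) *ᵥ u) ((g : Matrix (Fin m ⊕ Fin m) (Fin m ⊕ Fin m) F) *ᵥ v) = _
        simp only [sum_eq_sympBilin h2, ← hpol]
        change QuadraticMap.polar (⇑Q) _ _ = QuadraticMap.polar (⇑Q) u v
        simp only [QuadraticMap.polar, ← Matrix.mulVec_add]
        rw [(Refl.mem_iff Q).mp hg, (Refl.mem_iff Q).mp hg, (Refl.mem_iff Q).mp hg]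
      obtain ⟨g', rfl⟩ := hgr
      refine ⟨g', isom_coset_four h2 D hC hB hd hsq ha he hae (by rw [finrank_sympSpace, hm]) haz hez hz g'
        (fun x => ?_), rfl⟩
      have := (Refl.mem_iff Q).mp hg x
      rwa [sympToGL_mulVec] at this
    · have hmem := Refl.mem_closure_refl Q hQnd (Or.inr (by
        rw [Fintype.card_sum, Fintype.card_fin]; omega)) ⟨g, hg⟩
      have hle : Subgroup.closure {x | ∃ (v : Fin m ⊕ Fin m → F) (hv : Q v ≠ 0), x = Refl.refl Q v hv} ≤
          (T.map (sympToGL m F)).comap (Cfsg.isometryGroup F ⇑Q).subtype := by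
        refine (Subgroup.closure_le _).mpr ?_
        rintro x ⟨v, hv, rfl⟩
        refine ⟨sympT hA v (Q v)⁻¹, Or.inr (refl_coset h2 D hC hB hd ha he hae hsq haz hez hz hv), ?_⟩
        refine Units.ext (Matrix.toLin'.injective (LinearMap.ext fun y => ?_))
        simp only [Matrix.toLin'_apply, sympToGL_mulVec, sympT_apply]
        change _ = Cfsg.reflectionMatrix (⇑Q) v *ᵥ y
        rw [Refl.mulVec_eq, sub_eq_add_neg, ← neg_smul, neg_smul_eq h2,
          show QuadraticMap.polar (⇑Q) v y = sympBilin m F y v from (hpol v y).trans (bil_comm h2 hA v y)]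
      obtain ⟨g', hg', h⟩ := hle hmem
      exact ⟨g', hg', h⟩
  have hMM : radGroup hA L' a e ≤ L' := radGroup_le h2 D hC hB hd ha he hae
  let E : Subgroup (GL (Fin m ⊕ Fin m) F) := (Refl.dickson Q hQnd).ker.map (Cfsg.isometryGroup F ⇑Q).subtype
  have hE : ∀ g (hg : g ∈ Cfsg.isometryGroup F ⇑Q),
      g ∈ E ↔ Even ((g : Matrix (Fin m ⊕ Fin m) (Fin m ⊕ Fin m) F) - 1).rank := fun g hg => by
    rw [← OmegaCls.dickson_rank hQnd ⟨g, hg⟩]
    constructor
    · rintro ⟨x, hx, rfl⟩; exact hx
    · intro h; exact ⟨⟨g, hg⟩, h, rfl⟩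
  have hMeven : radGroup hA L' a e ≤ E.comap (sympToGL m F) := by
    refine (Subgroup.closure_le _).mpr ?_
    rintro x ⟨w, haw, hew, hx⟩
    have hxL : x ∈ L' := hMM (Subgroup.subset_closure ⟨w, haw, hew, hx⟩)
    show sympToGL m F x ∈ E
    rw [hE _ (hinv _ hxL)]
    rcases eq_or_ne w 0 with rfl | hw
    · have h1 : x = 1 := by
        rcases hx with rfl | rfl
        · rw [phi_zero h2 D ha, sie_zero h2, sympT_zero]
        · rw [phi_zero h2 D he, sie_zero h2, sympT_zero]
      rw [h1, map_one, Units.val_one, sub_self, Matrix.rank_zero]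
      exact Even.zero
    · rcases hx with rfl | rfl
      · rw [rank_sie h2 hA hae haw hew hw]; exact even_two
      · rw [rank_sie h2 hA (by rw [bil_comm h2 hA, hae]) hew haw hw]; exact even_two
  have hrodd : sympToGL m F r ∉ E := fun h => by
    have hr1 : sympToGL m F r ∈ Cfsg.isometryGroup F ⇑Q := Subgroup.map_subtype_le _ h
    rw [hE _ hr1, hr, rank_sympT hA hz0 (inv_ne_zero hz)] at h
    exact absurd h (by decide)
  by_cases hrL : r ∈ L'
  · left
    refine le_antisymm hinv fun g hg => ?_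
    obtain ⟨g', hg', rfl⟩ := hcover g hg
    show g' ∈ L'
    rcases hg' with hg' | hg'
    · exact hMM hg'
    · have := L'.mul_mem (L'.inv_mem hrL) (hMM hg')
      rwa [← hr, inv_mul_cancel_left] at this
  · right
    intro g
    constructor
    · intro hg
      refine ⟨hinv g hg, ?_⟩
      obtain ⟨g', hg', rfl⟩ := hcover g (hinv g hg)
      rw [← hE _ (hinv _ hg)]
      rcases hg' with hg' | hg'
      · exact hMeven hg'
      · refine absurd ?_ hrL
        have := L'.mul_mem (hMM hg') (L'.inv_mem (show g' ∈ L' from hg))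
        rwa [← hr, mul_inv_cancel_right] at this
    · rintro ⟨hg, hev⟩
      obtain ⟨g', hg', rfl⟩ := hcover g hg
      rcases hg' with hg' | hg'
      · exact hMM hg'
      · refine absurd ?_ hrodd
        have h1 : sympToGL m F (r * g') ∈ E := hMeven hg'
        have h3 : sympToGL m F g' ∈ E := (hE _ hg).mpr hev
        rw [map_mul] at h1
        simpa using E.mul_mem h1 (E.inv_mem h3)

theorem conclude_small (hF : Fintype.card F = 2) (L : Subgroup (BilinIsom (sympBilin 2 F))) (h60 : 60 ∣ Nat.card L)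
    (hlt : 60 < Nat.card L) :
    L = ⊤ ∨ Nonempty (↥L ≃* ↥(alternatingGroup (Fin 6))) ∨ Nonempty (↥L ≃* Equiv.Perm (Fin 5)) := by
  classical
  obtain ⟨φ⟩ := SymEmbedding.six (F := F) hF
  let ψ : BilinIsom (sympBilin 2 F) ≃* Equiv.Perm (Fin 6) := (sympEquiv 2 F).symm.trans φ
  set K := L.map ψ.toMonoidHom with hK
  have e : L ≃* K := L.equivMapOfInjective _ ψ.injective
  have hcard : Nat.card K = Nat.card L := Nat.card_congr e.symm.toEquiv
  have hmul := K.card_mul_index
  rw [Nat.card_perm, Nat.card_fin, show Nat.factorial 6 = 720 from rfl, hcard] at hmul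
  by_cases hKtop : K = ⊤
  · left
    exact Subgroup.map_injective ψ.injective (hKtop.trans (Subgroup.map_top_of_surjective _ ψ.surjective).symm)
  right
  by_cases hKA : K = alternatingGroup (Fin 6)
  · exact Or.inl ⟨e.trans (MulEquiv.subgroupCongr hKA)⟩
  right
  have h6 := SymIndex.index_ge (Ω := Fin 6) (by simp) hKtop hKA
  rw [Fintype.card_fin] at h6
  obtain ⟨k, hk⟩ := h60
  rw [hk] at hmul hlt
  have hk2 : 2 ≤ k := by omega
  have hidx : K.index ≤ 6 := by
    have : 60 * 2 * K.index ≤ 60 * k * K.index := Nat.mul_le_mul_right _ (Nat.mul_le_mul_left _ hk2)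
    omega
  obtain ⟨e'⟩ := SymIndex.nonempty_equiv_perm (Ω := Fin 6) (n := 5) (H := K) (by simp) (by simp)
    (by rw [Fintype.card_fin]; omega)
  exact ⟨e.trans e'⟩

end Cfsg.Lib.Classical.LargeRad
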