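import Mathlib
import Cfsg.Agent.Classical.Symp.LargeRad.Transv

set_option autoImplicit false
set_option linter.unusedVariables false
set_option linter.unusedSimpArgs false
set_option linter.unusedSectionVars false
set_option linter.style.haveILetI false

/-! A large transvection-free subgroup of the radical at a point meets every class modulo transvections. -/

namespace Cfsg.Lib.Classical.LargeRad

universe u v

variable {F : Type u} [Field F] [Finite F] {V : Type v} [AddCommGroup V] [Module F V] [FiniteDimensional F V]
  {B : LinearMap.BilinForm F V} (h2 : (2 : F) = 0) (hA : B.IsAlt) (hB : B.Nondegenerate)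
include h2 hA hB

theorem mem_span_of_perp {a e v : V} (he : B a e = 1) (hv : perpPart B a e v = 0) (hav : B a v = 0) :
    v ∈ Submodule.span F {a} := by
  have h := eq_perpPart h2 hA he v
  rw [hv, hA.isRefl _ _ hav, zero_smul, add_zero, zero_add] at h
  rw [h]
  exact Submodule.smul_mem _ _ (Submodule.mem_span_singleton_self a)

/-- A 2-group of isometries fixing `a`, normalised by the transvections at centres orthogonal to `a`, is trivial on
`a^⊥ / ⟨a⟩`. -/
theorem trivial_on_perp (hd : 4 ≤ Module.finrank F V) {a e : V} (he : B a e = 1) (P : Subgroup (BilinIsom B))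
    (hP : IsPGroup 2 P) (hfix : ∀ g ∈ P, (g : BilinIsom B).1 a = a)
    (hnorm : ∀ z, B a z = 0 → ∀ c : F, ∀ g ∈ P, sympT hA z c * g * (sympT hA z c)⁻¹ ∈ P) :
    ∀ g ∈ P, ∀ v, B a v = 0 → (g : BilinIsom B).1 v + v ∈ Submodule.span F {a} := by
  classical
  haveI : Fact (Nat.Prime 2) := ⟨Nat.prime_two⟩
  haveI : Finite V := Module.finite_of_finite F
  have hea : B e a = 1 := by rw [bil_comm h2 hA, he]
  set S := {v : V // B a v = 0 ∧ B e v = 0} with hS
  have hπ : ∀ g : BilinIsom B, g.1 a = a → ∀ v, B a v = 0 →
      perpPart B a e (g.1 (perpPart B a e v)) = perpPart B a e (g.1 v) := fun g hg v hv => by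
    have hgv : B (g.1 v) a = 0 := by
      have h := BilinIsom.map_form g v a
      rwa [hg, hA.isRefl _ _ hv] at h
    have hgw : B (g.1 (perpPart B a e v)) a = 0 := by
      have h := BilinIsom.map_form g (perpPart B a e v) a
      rwa [hg, hA.isRefl _ _ (perpPart_left h2 hA he v)] at h
    simp only [perpPart, hA.isRefl _ _ hv, zero_smul, add_zero, map_add, map_smul, hg, LinearMap.add_apply,
      LinearMap.smul_apply, hA a, he, smul_eq_mul, mul_zero, mul_one]
    linear_combination (norm := module) h2 • (B v e • a)
  letI : MulAction P S :=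
    { smul := fun g v => ⟨perpPart B a e ((g : BilinIsom B).1 v.1), perpPart_left h2 hA he _, perpPart_right h2 hA he _⟩
      one_smul := fun v => Subtype.ext (by
        change perpPart B a e (((1 : P) : BilinIsom B).1 v.1) = v.1
        rw [Subgroup.coe_one, BilinIsom.one_apply', perpPart, hA.isRefl _ _ v.2.1, hA.isRefl _ _ v.2.2]
        module)
      mul_smul := fun g h v => Subtype.ext (by
        change perpPart B a e (((g * h : P) : BilinIsom B).1 v.1) =
          perpPart B a e ((g : BilinIsom B).1 (perpPart B a e ((h : BilinIsom B).1 v.1)))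
        rw [Subgroup.coe_mul, BilinIsom.mul_apply', hπ _ (hfix _ g.2) _
          (by
            have h' := BilinIsom.map_form (h : BilinIsom B) a v.1
            rwa [hfix _ h.2, v.2.1] at h')]) }
  set W := B.orthogonal (Submodule.span F ({a, e} : Set V)) with hW
  have hWmem : ∀ v, v ∈ W ↔ B a v = 0 ∧ B e v = 0 := fun v => by
    constructor
    · exact fun hw => ⟨hw a (Submodule.subset_span (by simp)), hw e (Submodule.subset_span (by simp))⟩
    · rintro ⟨h1, h3⟩ n hn
      change B n v = 0
      induction hn using Submodule.span_induction with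
      | mem x hx => rcases hx with rfl | rfl <;> assumption
      | zero => simp
      | add x y _ _ hx hy => simp [hx, hy]
      | smul c x _ hx => simp [hx]
  have hWdim : 1 ≤ Module.finrank F W := by
    have h3 : Module.finrank F (Submodule.span F ({a, e} : Set V)) ≤ 2 := by
      refine (finrank_span_le_card _).trans ?_
      simp only [Set.toFinset_insert, Set.toFinset_singleton]
      exact Finset.card_le_two
    have h1 : Module.finrank F W = Module.finrank F V - Module.finrank F (Submodule.span F ({a, e} : Set V)) :=
      LinearMap.BilinForm.finrank_orthogonal hB _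
    omega
  have h2card : 2 ∣ Nat.card S := by
    rw [Nat.card_congr (Equiv.subtypeEquivRight fun v => (hWmem v).symm :
      S ≃ {v : V // v ∈ W}), Module.natCard_eq_pow_finrank (K := F)]
    refine dvd_pow ?_ (by omega)
    haveI := Fintype.ofFinite F
    have hc : ringChar F = 2 := by
      have hd2 : ringChar F ∣ 2 := ringChar.dvd (by exact_mod_cast h2)
      exact ((Nat.dvd_prime Nat.prime_two).mp hd2).resolve_left (CharP.ringChar_ne_one (R := F))
    rw [Nat.card_eq_fintype_card]
    have := FiniteField.even_card_of_char_two hc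
    omega
  obtain ⟨⟨u, hau, heu⟩, hu, hu0⟩ := hP.exists_fixed_point_of_prime_dvd_card_of_fixed_point S h2card
    (a := ⟨0, map_zero _, map_zero _⟩) (fun g => Subtype.ext (by
      change perpPart B a e ((g : BilinIsom B).1 0) = 0
      rw [map_zero, perpPart, map_zero, LinearMap.zero_apply, LinearMap.zero_apply]
      module))
  have hu0' : u ≠ 0 := fun h => hu0 (Subtype.ext h.symm)
  let U : Submodule F V :=
    { carrier := {v | B a v = 0 ∧ ∀ g ∈ P, (g : BilinIsom B).1 v + v ∈ Submodule.span F {a}}
      add_mem' := fun {x y} hx hy => ⟨by rw [map_add, hx.1, hy.1, add_zero], fun g hg => by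
        rw [map_add, add_add_add_comm]; exact add_mem (hx.2 g hg) (hy.2 g hg)⟩
      zero_mem' := ⟨map_zero _, fun g hg => by rw [map_zero, add_zero]; exact zero_mem _⟩
      smul_mem' := fun c x hx => ⟨by rw [map_smul, hx.1, smul_zero], fun g hg => by
        rw [map_smul, ← smul_add]; exact Submodule.smul_mem _ _ (hx.2 g hg)⟩ }
  have huU : u ∈ U := ⟨hau, fun g hg => by
    have h := congrArg Subtype.val (hu ⟨g, hg⟩)
    change perpPart B a e (g.1 u) = u at h
    have hgu : B a (g.1 u) = 0 := by rw [← hfix g hg, BilinIsom.map_form, hau]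
    refine mem_span_of_perp h2 hA hB he ?_ (by rw [map_add, hgu, hau, add_zero])
    rw [show perpPart B a e (g.1 u + u) = perpPart B a e (g.1 u) + perpPart B a e u by
      simp only [perpPart, map_add, LinearMap.add_apply]; module, h]
    rw [perpPart, hA.isRefl _ _ hau, hA.isRefl _ _ heu]
    linear_combination (norm := module) h2 • u⟩
  have haU : a ∈ U := ⟨hA a, fun g hg => by rw [hfix g hg, smul_two h2]; exact zero_mem _⟩
  have hinv : ∀ z, B a z = 0 → B u z ≠ 0 → z ∈ U := fun z haz huz => by
    set t := sympT hA z 1 with ht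
    have hta : t.1 a = a := by rw [ht, sympT_apply, haz, mul_zero, zero_smul, add_zero]
    have htu : t.1 u ∈ U := ⟨by rw [← hta, BilinIsom.map_form, hau], fun g hg => by
      have hti : t⁻¹ = sympT hA z (-1) := by
        rw [eq_comm, eq_inv_iff_mul_eq_one, ht, ← sympT_add, neg_add_cancel, sympT_zero]
      have hg' : t⁻¹ * g * t ∈ P := by
        have := hnorm z haz (-1) g hg
        rwa [← hti, inv_inv] at this
      obtain ⟨k, hk⟩ := Submodule.mem_span_singleton.mp (huU.2 _ hg')
      refine Submodule.mem_span_singleton.mpr ⟨k, ?_⟩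
      have h := congrArg (fun x => t.1 x) hk
      simp only [map_smul, map_add, hta] at h
      rw [h, ← BilinIsom.mul_apply' t (t⁻¹ * g * t), show t * (t⁻¹ * g * t) = g * t by group,
        BilinIsom.mul_apply']⟩
    have hd' : B u z • z ∈ U := by
      have := U.sub_mem htu huU
      rwa [ht, sympT_apply, one_mul, add_sub_cancel_left] at this
    simpa [smul_smul, inv_mul_cancel₀ huz] using U.smul_mem (B u z)⁻¹ hd'
  obtain ⟨z₀, haz₀, -, huz₀⟩ := exists_perp_value h2 hA hB he hu0' hau heu 1
  intro g hg v hv
  have hvU : v ∈ U := by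
    by_cases huv : B u v = 0
    · have h1 := hinv (v + z₀) (by rw [map_add, hv, haz₀, add_zero])
        (by rw [map_add, huv, huz₀, zero_add]; exact one_ne_zero)
      have h3 := hinv z₀ haz₀ (by rw [huz₀]; exact one_ne_zero)
      simpa using U.sub_mem h1 h3
    · exact hinv v hv huv
  exact hvU.2 g hg

theorem eq_sie_of_trivial {a e : V} (he : B a e = 1) {g : BilinIsom B} (hga : g.1 a = a)
    (htriv : ∀ v, B a v = 0 → g.1 v + v ∈ Submodule.span F {a}) :
    g = sie hA a (perpPart B a e (g.1 e)) (B (g.1 e) e) := by
  have hea : B e a = 1 := by rw [bil_comm h2 hA, he]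
  set w := perpPart B a e (g.1 e) with hw
  set c := B (g.1 e) e with hc
  have haw : B a w = 0 := perpPart_left h2 hA he _
  have hew : B e w = 0 := perpPart_right h2 hA he _
  have hgea : B (g.1 e) a = 1 := by rw [← hga, BilinIsom.map_form, hea]
  have hge : g.1 e = w + c • a + e := by
    rw [hw]
    conv_lhs => rw [eq_perpPart h2 hA he (g.1 e), hgea, one_smul, ← hc]
  have hperp : ∀ v, B a v = 0 → B e v = 0 → g.1 v = v + B v w • a := fun v hav hev => by
    obtain ⟨k, hk⟩ := Submodule.mem_span_singleton.mp (htriv v hav)
    have hgv : g.1 v = v + k • a := by rw [hk]; linear_combination (norm := module) -h2 • v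
    have h := BilinIsom.map_form g v e
    rw [hgv, hge] at h
    simp only [map_add, map_smul, LinearMap.add_apply, LinearMap.smul_apply, hA a, he, haw, hA.isRefl _ _ hev,
      hA.isRefl _ _ hav, smul_eq_mul, mul_zero, mul_one, zero_add, add_zero] at h
    rw [hgv, show k = B v w by linear_combination h - h2 * B v w]
  refine BilinIsom.ext' fun x => ?_
  rw [sie_apply hA haw]
  conv_lhs => rw [eq_perpPart h2 hA he x]
  have hπw : B (perpPart B a e x) w = B x w := by
    simp only [perpPart, map_add, map_smul, LinearMap.add_apply, LinearMap.smul_apply, haw, hew, smul_zero, add_zero]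
  rw [map_add, map_add, map_smul, map_smul, hperp _ (perpPart_left h2 hA he x) (perpPart_right h2 hA he x), hga, hge,
    hπw]
  simp only [perpPart]
  linear_combination (norm := module) h2 • (B x e • a) + h2 • (B x a • e)

theorem hasU_of_large (hd : 4 ≤ Module.finrank F V) {a : V} (ha : a ≠ 0) (X P : Subgroup (BilinIsom B))
    (hXP : X ≤ P) (hP : IsPGroup 2 P) (hfix : ∀ g ∈ P, (g : BilinIsom B).1 a = a)
    (hnorm : ∀ z, B a z = 0 → ∀ c : F, ∀ g ∈ P, sympT hA z c * g * (sympT hA z c)⁻¹ ∈ P)
    (hcard : Nat.card X = Nat.card F ^ (Module.finrank F V - 2))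
    (htv : ∀ c : F, sympT hA a c ∈ X → c = 0) : HasU hA X a := by
  classical
  haveI : Finite V := Module.finite_of_finite F
  obtain ⟨e, he⟩ := exists_hyperbolic_partner hB ha
  set W := B.orthogonal (Submodule.span F ({a, e} : Set V)) with hW
  have hWdim : Module.finrank F W = Module.finrank F V - 2 := by
    have hli : Module.finrank F (Submodule.span F ({a, e} : Set V)) = 2 := by
      have h : LinearIndependent F ![a, e] := by
        rw [LinearIndependent.pair_iff]
        intro s t hst
        have h1 := congrArg (B a) hst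
        simp only [map_add, map_smul, hA a, he, smul_eq_mul, mul_zero, mul_one, zero_add, map_zero] at h1
        subst h1
        rw [zero_smul, add_zero, smul_eq_zero] at hst
        exact ⟨hst.resolve_right ha, rfl⟩
      have := finrank_span_eq_card h
      rwa [Matrix.range_cons_cons_empty, Fintype.card_fin] at this
    rw [hW, LinearMap.BilinForm.finrank_orthogonal hB, hli]
  have hmem : ∀ v, perpPart B a e v ∈ W := fun v n hn => by
    change B n (perpPart B a e v) = 0
    induction hn using Submodule.span_induction with
    | mem x hx =>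
      rcases hx with rfl | rfl
      exacts [perpPart_left h2 hA he v, perpPart_right h2 hA he v]
    | zero => simp
    | add x y _ _ hx hy => simp [hx, hy]
    | smul c x _ hx => simp [hx]
  have hsie : ∀ g ∈ X, g = sie hA a (perpPart B a e ((g : BilinIsom B).1 e)) (B ((g : BilinIsom B).1 e) e) :=
    fun g hg => eq_sie_of_trivial h2 hA hB he (hfix g (hXP hg))
      (trivial_on_perp h2 hA hB hd he P hP hfix hnorm g (hXP hg))
  haveI : Finite (BilinIsom B) := Finite.of_injective (fun g => (g.1 : V → V))
    fun g h hgh => BilinIsom.ext' fun x => congrFun hgh x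
  let f : X → W := fun g => ⟨perpPart B a e ((g : BilinIsom B).1 e), hmem _⟩
  have hinj : Function.Injective f := fun g g' h => by
    have hw : perpPart B a e (g.1.1 e) = perpPart B a e (g'.1.1 e) := congrArg Subtype.val h
    have h1 := hsie g.1 g.2
    have h3 := hsie g'.1 g'.2
    rw [hw] at h1
    set w := perpPart B a e (g'.1.1 e)
    set c := B (g.1.1 e) e
    set c' := B (g'.1.1 e) e
    have haw : B a w = 0 := perpPart_left h2 hA he _
    have h4 : g.1 * g'.1 = sympT hA a (c + c') := by
      rw [h1, h3, sie_mul h2 hA haw haw, smul_two h2, hA w, add_zero, sie_zero h2 hA]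
    have h5 := htv _ (h4 ▸ X.mul_mem g.2 g'.2)
    refine Subtype.ext ?_
    rw [h1, h3, show c = c' by linear_combination h5 - h2 * c']
  have hbij : Function.Bijective f := (Nat.bijective_iff_injective_and_card f).mpr ⟨hinj, by
    rw [hcard, Module.natCard_eq_pow_finrank (K := F) (V := W), hWdim]⟩
  intro w hw
  obtain ⟨g, hg⟩ := hbij.2 ⟨perpPart B a e w, hmem w⟩
  have hg' : perpPart B a e (g.1.1 e) = perpPart B a e w := congrArg Subtype.val hg
  have h1 := hsie g.1 g.2
  rw [hg'] at h1
  refine ⟨B (g.1.1 e) e, ?_⟩
  have h3 : w = perpPart B a e w + B w e • a := by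
    conv_lhs => rw [eq_perpPart h2 hA he w, hA.isRefl _ _ hw, zero_smul, add_zero]
  rw [h3, sie_add_centre h2 hA (perpPart_left h2 hA he w), ← h1]
  exact g.2

end Cfsg.Lib.Classical.LargeRad
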