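import Mathlib
import Cfsg.Agent.Classical.Symp.LargeRad.Four

set_option autoImplicit false
set_option linter.unusedVariables false
set_option linter.unusedSimpArgs false
set_option linter.unusedSectionVars false
set_option linter.style.haveILetI false

/-! Irreducible subgroups with a full radical at one point. -/

namespace Cfsg.Lib.Classical.LargeRad

universe u v

variable {F : Type u} [Field F] [Finite F] {V : Type v} [AddCommGroup V] [Module F V] [FiniteDimensional F V]
  {B : LinearMap.BilinForm F V}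

/-- The scalar closure of an orbit. -/
def orbSet (L : Subgroup (BilinIsom B)) (a₀ : V) (v : V) : Prop :=
  ∃ g ∈ L, ∃ k : F, k ≠ 0 ∧ v = k • (g : BilinIsom B).1 a₀

variable {hA : B.IsAlt} {L : Subgroup (BilinIsom B)} (h2 : (2 : F) = 0)
include h2

theorem orbSet_self (a₀ : V) : orbSet L a₀ a₀ :=
  ⟨1, L.one_mem, 1, one_ne_zero, by rw [BilinIsom.one_apply', one_smul]⟩

theorem rad_orbSet (hB : B.Nondegenerate)
    (hirr : ∀ W : Submodule F V, (∀ g ∈ L, ∀ w ∈ W, (g : BilinIsom B).1 w ∈ W) → W = ⊥ ∨ W = ⊤)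
    {a₀ : V} (ha₀ : a₀ ≠ 0) (hU : HasU hA L a₀)
    (htf : ∀ a, orbSet L a₀ a → ∀ c : F, sympT hA a c ∈ L → c = 0) : Rad hA L (orbSet L a₀) where
  ne_zero := by
    rintro a ⟨g, hg, k, hk, rfl⟩ h
    rcases smul_eq_zero.mp h with h | h
    · exact hk h
    · exact ha₀ (g.1.injective (by rw [h, map_zero]))
  hasU := by
    rintro a ⟨g, hg, k, hk, rfl⟩
    exact (hU.map hg).smul h2 hk
  map := by
    rintro a ⟨g, hg, k, hk, rfl⟩ g' hg'
    exact ⟨g' * g, L.mul_mem hg' hg, k, hk, by rw [BilinIsom.mul_apply', map_smul]⟩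
  smul := by
    rintro a ⟨g, hg, k, hk, rfl⟩ k' hk'
    exact ⟨g, hg, k' * k, mul_ne_zero hk' hk, by rw [smul_smul]⟩
  tf := htf
  partner := by
    intro a ha
    by_contra hcon
    push Not at hcon
    set W := Submodule.span F {v : V | orbSet L a₀ v} with hW
    have hinv : ∀ g ∈ L, ∀ w ∈ W, (g : BilinIsom B).1 w ∈ W := fun g hg w hw => by
      have hle : W ≤ W.comap g.1.toLinearMap := Submodule.span_le.mpr (by
        rintro v ⟨g', hg', k, hk, rfl⟩
        exact Submodule.subset_span ⟨g * g', L.mul_mem hg hg', k, hk, by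
          rw [BilinIsom.mul_apply']; simp⟩)
      exact hle hw
    have haW : a ∈ W := Submodule.subset_span ha
    obtain ⟨g, hg, k, hk, rfl⟩ := ha
    have hane : k • g.1 a₀ ≠ 0 := smul_ne_zero hk (fun h => ha₀ (g.1.injective (by rw [h, map_zero])))
    rcases hirr W hinv with h | h
    · exact hane (by rwa [h, Submodule.mem_bot] at haW)
    · obtain ⟨u, hu⟩ := exists_hyperbolic_partner hB hane
      have hle : W ≤ LinearMap.ker (B (k • g.1 a₀)) := Submodule.span_le.mpr fun b hb => hcon b hb
      rw [h] at hle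
      exact one_ne_zero (hu.symm.trans (hle (Submodule.mem_top (x := u))))
  trans := by
    rintro a b ⟨g, hg, k, hk, rfl⟩ ⟨g', hg', k', hk', rfl⟩
    refine ⟨g' * g⁻¹, L.mul_mem hg' (L.inv_mem hg), k / k', div_ne_zero hk hk', ?_⟩
    rw [BilinIsom.mul_apply', map_smul, BilinIsom.inv_apply_self, map_smul, smul_smul, div_mul_cancel₀ _ hk']

theorem classify (hA : B.IsAlt) (hB : B.Nondegenerate) (hd : 4 ≤ Module.finrank F V)
    (hsq : ∀ x : F, ∃ r : F, r ^ 2 = x)
    (hirr : ∀ W : Submodule F V, (∀ g ∈ L, ∀ w ∈ W, (g : BilinIsom B).1 w ∈ W) → W = ⊥ ∨ W = ⊤)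
    {a₀ : V} (ha₀ : a₀ ≠ 0) (hU : HasU hA L a₀) :
    L = ⊤ ∨ (∃ (O : V → Prop) (a e : V), Rad hA L O ∧ Cons B O ∧ O a ∧ O e ∧ B a e = 1) ∨
      (Nat.card F = 2 ∧ Module.finrank F V = 4 ∧ 60 ∣ Nat.card L ∧ 60 < Nat.card L) := by
  classical
  set O := orbSet L a₀ with hO
  by_cases htf : ∀ a, O a → ∀ c : F, sympT hA a c ∈ L → c = 0
  swap
  · left
    push Not at htf
    obtain ⟨a, ha, c, hc, hc0⟩ := htf
    obtain ⟨g, hg, k, hk, rfl⟩ := ha
    rw [sympT_smul, ← sympT_conj] at hc
    have hc' : sympT hA a₀ (k ^ 2 * c) ∈ L := by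
      have := L.mul_mem (L.mul_mem (L.inv_mem hg) hc) hg
      rwa [show g⁻¹ * (g * sympT hA a₀ (k ^ 2 * c) * g⁻¹) * g = sympT hA a₀ (k ^ 2 * c) by group] at this
    refine top_of_transvection h2 hsq hB hd hU ?_ (mul_ne_zero (pow_ne_zero 2 hk) hc0) hc'
    by_contra hcon
    push Not at hcon
    set W := Submodule.span F {v : V | O v} with hW
    have hinv : ∀ g ∈ L, ∀ w ∈ W, (g : BilinIsom B).1 w ∈ W := fun g hg w hw => by
      have hle : W ≤ W.comap g.1.toLinearMap := Submodule.span_le.mpr (by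
        rintro v ⟨g', hg', k, hk, rfl⟩
        exact Submodule.subset_span ⟨g * g', L.mul_mem hg hg', k, hk, by
          rw [BilinIsom.mul_apply']; simp⟩)
      exact hle hw
    have haW : a₀ ∈ W := Submodule.subset_span (orbSet_self h2 a₀)
    rcases hirr W hinv with h | h
    · exact ha₀ (by rwa [h, Submodule.mem_bot] at haW)
    · obtain ⟨u, hu⟩ := exists_hyperbolic_partner hB ha₀
      have hle : W ≤ LinearMap.ker (B a₀) := Submodule.span_le.mpr (by
        rintro v ⟨g', hg', k', hk', rfl⟩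
        change B a₀ (k' • g'.1 a₀) = 0
        rw [map_smul, hcon g' hg', smul_zero])
      rw [h] at hle
      exact one_ne_zero (hu.symm.trans (hle (Submodule.mem_top (x := u))))
  right
  have D : Rad hA L O := rad_orbSet h2 hB hirr ha₀ hU htf
  by_cases hC : Cons B O
  · left
    obtain ⟨b, hb, hab⟩ := D.partner a₀ (orbSet_self h2 a₀)
    exact ⟨O, a₀, (B a₀ b)⁻¹ • b, D, hC, orbSet_self h2 a₀, D.smul b hb _ (inv_ne_zero hab),
      by rw [map_smul, smul_eq_mul, inv_mul_cancel₀ hab]⟩
  right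
  have hq : Nat.card F = 2 := by
    have h1 : 1 < Nat.card F := Finite.one_lt_card
    by_contra hne
    exact hC fun a e c ha he hae hp => by
      by_contra hc
      exact cons_of_big h2 D hB hd (by omega) ha he hae hc hp
  have h4 : Module.finrank F V = 4 := by
    by_contra hne
    exact hC (cons_of_two h2 D hB hq (by omega))
  refine ⟨hq, h4, ?_⟩
  have hall : ∀ v, v ≠ 0 → O v := all_centres h2 D hB hq h4 hC
  haveI : Finite V := Module.finite_of_finite F
  haveI : Finite (BilinIsom B) := Finite.of_injective (fun g => (g.1 : V → V))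
    fun g h hgh => BilinIsom.ext' fun x => congrFun hgh x
  letI : MulAction L {v : V // v ≠ 0} :=
    { smul := fun g v => ⟨(g : BilinIsom B).1 v.1, fun h => v.2 ((g : BilinIsom B).1.injective (by rw [h, map_zero]))⟩
      one_smul := fun v => Subtype.ext (by
        change ((1 : L) : BilinIsom B).1 v.1 = v.1
        rw [Subgroup.coe_one, BilinIsom.one_apply'])
      mul_smul := fun g h v => Subtype.ext (by
        change ((g * h : L) : BilinIsom B).1 v.1 = (g : BilinIsom B).1 ((h : BilinIsom B).1 v.1)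
        rw [Subgroup.coe_mul, BilinIsom.mul_apply']) }
  have hk1 : ∀ k : F, k ≠ 0 → k = 1 := fun k hk => (eq_zero_or_one h2 D hq k).resolve_left hk
  have htrans : ∀ a b : V, a ≠ 0 → b ≠ 0 → ∃ g ∈ L, (g : BilinIsom B).1 a = b := fun a b ha hb => by
    obtain ⟨g, hg, k, hk, h⟩ := D.trans a b (hall a ha) (hall b hb)
    exact ⟨g, hg, by rw [h, hk1 k hk, one_smul]⟩
  haveI : MulAction.IsPretransitive L {v : V // v ≠ 0} := ⟨fun x y => by
    obtain ⟨g, hg, h⟩ := htrans x.1 y.1 x.2 y.2
    exact ⟨⟨g, hg⟩, Subtype.ext h⟩⟩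
  set a : {v : V // v ≠ 0} := ⟨a₀, ha₀⟩ with ha
  set S := MulAction.stabilizer L a with hS
  have hcardV : Nat.card {v : V // v ≠ 0} = 15 := by
    haveI := Fintype.ofFinite V
    rw [Nat.card_eq_fintype_card, Fintype.card_subtype_compl, Fintype.card_subtype_eq, ← Nat.card_eq_fintype_card,
      Module.natCard_eq_pow_finrank (K := F), hq, h4]
    norm_num
  have hidx : S.index = 15 := by rw [hS, MulAction.index_stabilizer_of_transitive, hcardV]
  obtain ⟨b, hb, hab⟩ := D.partner a₀ (orbSet_self h2 a₀)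
  have hab1 : B a₀ b = 1 := hk1 _ hab
  set W := B.orthogonal (Submodule.span F ({a₀, b} : Set V)) with hW
  have hWmem : ∀ w ∈ W, B a₀ w = 0 ∧ B b w = 0 := fun w hw =>
    ⟨hw a₀ (Submodule.subset_span (by simp)), hw b (Submodule.subset_span (by simp))⟩
  have hWdim : 2 ≤ Module.finrank F W := by
    have h3 : Module.finrank F (Submodule.span F ({a₀, b} : Set V)) ≤ 2 := by
      refine (finrank_span_le_card _).trans ?_
      simp only [Set.toFinset_insert, Set.toFinset_singleton]
      exact Finset.card_le_two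
    have h1 : Module.finrank F W = Module.finrank F V - Module.finrank F (Submodule.span F ({a₀, b} : Set V)) :=
      LinearMap.BilinForm.finrank_orthogonal hB _
    omega
  have hfix : ∀ w, B a₀ w = 0 → ∀ c, (sie hA a₀ w c).1 a₀ = a₀ := fun w hw c => by
    rw [sie_apply hA hw, hw, hA a₀]; module
  let f : Multiplicative W →* S :=
    { toFun := fun w => ⟨⟨_, phi_mem h2 D (orbSet_self h2 a₀) (hWmem _ (Multiplicative.toAdd w).2).1⟩,
        Subtype.ext (hfix _ (hWmem _ (Multiplicative.toAdd w).2).1 _)⟩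
      map_one' := Subtype.ext (Subtype.ext (by
        change sie hA a₀ (0 : V) (phi hA L a₀ (0 : V)) = 1
        rw [phi_zero h2 D (orbSet_self h2 a₀), sie_zero h2, sympT_zero]))
      map_mul' := fun w w' => Subtype.ext (Subtype.ext (by
        have h1 := (hWmem _ (Multiplicative.toAdd w).2).1
        have h3 := (hWmem _ (Multiplicative.toAdd w').2).1
        change sie hA a₀ (((Multiplicative.toAdd w : W) : V) + (Multiplicative.toAdd w' : W))
            (phi hA L a₀ (((Multiplicative.toAdd w : W) : V) + (Multiplicative.toAdd w' : W))) =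
          sie hA a₀ _ _ * sie hA a₀ _ _
        rw [sie_mul h2 hA h1 h3, phi_add h2 D (orbSet_self h2 a₀) h1 h3])) }
  have hfinj : Function.Injective f := fun w w' h => by
    have h0 : sie hA a₀ ((Multiplicative.toAdd w : W) : V) (phi hA L a₀ ((Multiplicative.toAdd w : W) : V)) =
        sie hA a₀ ((Multiplicative.toAdd w' : W) : V) (phi hA L a₀ ((Multiplicative.toAdd w' : W) : V)) :=
      congrArg (fun s : S => ((s : L) : BilinIsom B)) h
    obtain ⟨h1, h1'⟩ := hWmem _ (Multiplicative.toAdd w).2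
    obtain ⟨h3, h3'⟩ := hWmem _ (Multiplicative.toAdd w').2
    set wv := ((Multiplicative.toAdd w : W) : V)
    set wv' := ((Multiplicative.toAdd w' : W) : V)
    have hba : B b a₀ = 1 := by rw [bil_comm h2 hA, hab1]
    have h5 := congrArg (fun g : BilinIsom B => g.1 b) h0
    simp only [sie_apply hA h1, sie_apply hA h3, h1', h3', hba, zero_add, mul_one, one_smul] at h5
    have h6 := congrArg (B b) h5
    simp only [map_add, map_smul, hA b, hba, h1', h3', smul_eq_mul, mul_one, zero_add, add_zero] at h6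
    rw [h6] at h5
    exact Multiplicative.toAdd.injective (Subtype.ext (add_left_cancel h5))
  have hdvd : 4 ∣ Nat.card S := by
    refine dvd_trans ?_ (f.range.card_subgroup_dvd_card)
    rw [← Nat.card_congr (MonoidHom.ofInjective hfinj).toEquiv]
    have : Nat.card (Multiplicative W) = 2 ^ Module.finrank F W := by
      rw [Nat.card_congr Multiplicative.toAdd, Module.natCard_eq_pow_finrank (K := F), hq]
    rw [this]
    exact dvd_trans (by norm_num) (pow_dvd_pow 2 hWdim)
  have hlt : Nat.card f.range < Nat.card S := by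
    refine lt_of_le_of_ne (Subgroup.card_le_card_group _) fun heq => ?_
    have hsur := Subgroup.eq_top_of_card_eq f.range heq
    obtain ⟨w, haw, hbw, hphiw⟩ := exists_phi_value h2 D hB hd (orbSet_self h2 a₀) hab1 1
    have hw0 : w ≠ 0 := fun h0 => one_ne_zero (α := F) (by
      rw [← hphiw, h0, phi_zero h2 D (orbSet_self h2 a₀)])
    obtain ⟨h, hh, hha⟩ := htrans w a₀ hw0 ha₀
    have hx := phi_mem h2 D (orbSet_self h2 a₀) haw
    set x := sie hA a₀ w (phi hA L a₀ w) with hxdef
    have hxw : x.1 w = w := by rw [hxdef, sie_apply hA haw, hA w, hA.isRefl _ _ haw]; module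
    have hy : (⟨⟨h * x * h⁻¹, L.mul_mem (L.mul_mem hh hx) (L.inv_mem hh)⟩, Subtype.ext (by
        change (h * x * h⁻¹).1 a₀ = a₀
        rw [BilinIsom.mul_apply', BilinIsom.mul_apply', ← hha, BilinIsom.inv_apply_self, hxw])⟩ : S) ∈ f.range := by
      rw [hsur]; exact Subgroup.mem_top _
    obtain ⟨z, hz⟩ := hy
    have hz' : sie hA a₀ ((Multiplicative.toAdd z : W) : V) (phi hA L a₀ ((Multiplicative.toAdd z : W) : V)) =
        h * x * h⁻¹ := congrArg (fun s : S => ((s : L) : BilinIsom B)) hz
    obtain ⟨hz1, hz2⟩ := hWmem _ (Multiplicative.toAdd z).2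
    have hxeq : x = sie hA w ((h⁻¹).1 ((Multiplicative.toAdd z : W) : V))
        (phi hA L a₀ ((Multiplicative.toAdd z : W) : V)) := by
      have : x = h⁻¹ * (h * x * h⁻¹) * (h⁻¹)⁻¹ := by group
      rw [this, ← hz', sie_conj, ← hha, BilinIsom.inv_apply_self]
    have hwz : B w ((h⁻¹).1 ((Multiplicative.toAdd z : W) : V)) = 0 := by
      rw [← BilinIsom.map_form h, BilinIsom.apply_inv_self, hha, hz1]
    have hba : B b a₀ = 1 := by rw [bil_comm h2 hA, hab1]
    have h5 : x.1 b = (sie hA w ((h⁻¹).1 ((Multiplicative.toAdd z : W) : V))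
        (phi hA L a₀ ((Multiplicative.toAdd z : W) : V))).1 b := by rw [← hxeq]
    rw [hxdef, sie_apply hA haw, sie_apply hA hwz, hbw, hba, zero_add, mul_one, one_smul, mul_zero, add_zero,
      zero_smul, add_zero] at h5
    have h6 := congrArg (fun v => B v b) h5
    simp only [map_add, map_smul, LinearMap.add_apply, LinearMap.smul_apply, hA b, hab1, hA.isRefl _ _ hbw,
      smul_eq_mul, mul_zero, mul_one, add_zero, zero_add] at h6
    rw [hphiw] at h6
    exact one_ne_zero h6
  have hmul : Nat.card S * S.index = Nat.card L := S.card_mul_index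
  rw [hidx] at hmul
  have h8 : 8 ≤ Nat.card S := by
    have h40 : 4 ≤ Nat.card f.range := by
      rw [← Nat.card_congr (MonoidHom.ofInjective hfinj).toEquiv, Nat.card_congr Multiplicative.toAdd,
        Module.natCard_eq_pow_finrank (K := F), hq]
      exact (show (4 : ℕ) = 2 ^ 2 by norm_num) ▸ Nat.pow_le_pow_right (by norm_num) hWdim
    omega
  constructor <;> omega

end Cfsg.Lib.Classical.LargeRad
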